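/-
Components and normal subsystems: intersections along a chain, and the quasisimple case.
-/
import Cfsg.Agent.Lib.Fusion.QuotientNormal
import Cfsg.Agent.Lib.Fusion.CentralizerNormal
import Cfsg.Agent.Lib.Fusion.FunctorNormal
import Cfsg.Agent.Lib.Fusion.Simple
import Cfsg.Agent.Lib.Fusion.LayerExists
import Cfsg.Agent.Lib.Fusion.Wedge.Saturated

set_option autoImplicit false

namespace Cfsg.Agent.Lib.Fusion.Component

open Cfsg Cfsg.FusionSystem

universe u

variable {Ω : Type u} [Group Ω] {S U V W : Subgroup Ω} {F : FusionSystem S} {C : FusionSystem V}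
  {N : FusionSystem W} {p : ℕ}

/-- The same system: over the same subgroup, with the same maps. -/
def SameSys (C : FusionSystem V) (N : FusionSystem W) : Prop :=
  V = W ∧ ∀ P : Subgroup Ω, C.Hom P = N.Hom P

theorem eq_of_hom {X Y : FusionSystem S} (h : ∀ P, X.Hom P = Y.Hom P) : X = Y := by
  cases X
  cases Y
  simp only [Cfsg.FusionSystem.mk.injEq]
  exact funext h

theorem eq_of_le {X Y : FusionSystem S} (h : X.IsSubsystemOf Y) (h' : Y.IsSubsystemOf X) :
    X = Y :=
  eq_of_hom fun P => Set.Subset.antisymm (h P) (h' P)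

/-- Two normal subsystems meet in a normal subsystem of each. -/
theorem exists_meet [Fact p.Prime] [Finite S] (hS : IsPGroup p S) {X : FusionSystem U}
    (hX : X.IsNormalIn F p) (hN : N.IsNormalIn F p) :
    ∃ M : FusionSystem (U ⊓ W), M.IsNormalIn X p ∧ M.IsNormalIn N p := by
  have hUS : U ≤ S := hX.1.2.2.2.1.1
  have hWS : W ≤ S := hN.1.2.2.2.1.1
  haveI : Finite U := finite_of_le hUS
  haveI : Finite W := finite_of_le hWS
  obtain ⟨h₁, h₂⟩ := Wedge.isWeaklyNormalIn_wedge_sub hS hX hN
  exact ⟨_, isNormalIn_pPrimeResidualSystem (hS.to_le hUS) h₁,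
    isNormalIn_pPrimeResidualSystem (hS.to_le hWS) h₂⟩

/-- A normal subsystem cuts a normal subsystem out of each subnormal subsystem. -/
theorem exists_normal_inf {V S : Subgroup Ω} {C : FusionSystem V} {F : FusionSystem S}
    (h : C.IsSubnormalIn F p) : p.Prime → IsPGroup p S → Finite S →
    ∀ (W : Subgroup Ω) (N : FusionSystem W), N.IsNormalIn F p →
      ∃ M : FusionSystem (V ⊓ W), M.IsNormalIn C p := by
  induction h with
  | refl F p =>
    intro hp hS hfin W N hN
    have e := (inf_eq_right.2 hN.1.2.2.2.1.1).symm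
    revert N
    generalize hW : (_ ⊓ W : Subgroup Ω) = W' at *
    subst e
    exact fun N hN => ⟨N, hN⟩
  | @step U S C X F p hCX hX ih =>
    intro hp hS hfin W N hN
    haveI : Fact p.Prime := ⟨hp⟩
    have hUS : U ≤ S := hX.1.2.2.2.1.1
    obtain ⟨M, hM, -⟩ := exists_meet hS hX hN
    obtain ⟨M', hM'⟩ := ih hp (hS.to_le hUS) (finite_of_le hUS) _ M hM
    have e : V ⊓ (U ⊓ W) = V ⊓ W := by
      rw [← inf_assoc, inf_eq_left.2 (Components.le_of_subnormal hCX)]
    revert M'
    rw [e]
    exact fun M' hM' => ⟨M', hM'⟩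

/-- A component not inside a normal subsystem meets it centrally. -/
theorem inf_le_center [Fact p.Prime] [Finite S] (hS : IsPGroup p S) (hC : C.IsComponentIn F p)
    (hN : N.IsNormalIn F p) (h : ¬ V ≤ W) : V ⊓ W ≤ C.center := by
  have hVS := Components.le_of_subnormal hC.1
  haveI : Finite V := finite_of_le hVS
  obtain ⟨M, hM⟩ := exists_normal_inf hC.1 Fact.out hS inferInstance W N hN
  exact QuotientNormal.le_center_of_normal_quasisimple (hS.to_le hVS) hC.2 hM.1
    fun e => h (inf_eq_left.1 e)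

/-- A component inside a normal subsystem is a component of it. -/
theorem isSubnormalIn_of_le {V S : Subgroup Ω} {C : FusionSystem V} {F : FusionSystem S}
    (h : C.IsSubnormalIn F p) : p.Prime → IsPGroup p S → Finite S → C.Quasisimple p →
    ∀ (W : Subgroup Ω) (N : FusionSystem W), N.IsNormalIn F p → V ≤ W → C.IsSubnormalIn N p := by
  induction h with
  | refl F p =>
    intro hp hS hfin hq W N hN hVW
    haveI : Fact p.Prime := ⟨hp⟩
    obtain rfl := le_antisymm hN.1.2.2.2.1.1 hVW
    obtain rfl : N = F := eq_of_le hN.1.2.2.1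
      (LayerExists.component_le_of_le hS ⟨IsSubnormalIn.refl F p, hq⟩ hN le_rfl)
    exact IsSubnormalIn.refl N p
  | @step U S C X F p hCX hX ih =>
    intro hp hS hfin hq W N hN hVW
    haveI : Fact p.Prime := ⟨hp⟩
    have hUS : U ≤ S := hX.1.2.2.2.1.1
    obtain ⟨M, hM₁, hM₂⟩ := exists_meet hS hX hN
    exact IsSubnormalIn.step (ih hp (hS.to_le hUS) (finite_of_le hUS) hq _ M hM₁
      (le_inf (Components.le_of_subnormal hCX) hVW)) hM₂

theorem isComponentIn_of_le [Fact p.Prime] [Finite S] (hS : IsPGroup p S)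
    (hC : C.IsComponentIn F p) (hN : N.IsNormalIn F p) (hVW : V ≤ W) : C.IsComponentIn N p :=
  ⟨isSubnormalIn_of_le hC.1 Fact.out hS inferInstance hC.2 W N hN hVW, hC.2⟩

theorem not_le_center [Fact p.Prime] [Finite V] (hV : IsPGroup p V) (hq : C.Quasisimple p)
    {R : Subgroup Ω} (hR : ∀ a ∈ R, ∀ b ∈ R, a * b = b * a) : ¬ V ≤ R := fun h =>
  not_isMulCommutative_of_quasisimple hV hq
    ⟨⟨fun a b => Subtype.ext (hR _ (h a.2) _ (h b.2))⟩⟩

/-- The only component of a quasisimple system is the system itself. -/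
theorem sameSys_of_quasisimple {V S : Subgroup Ω} {C : FusionSystem V} {F : FusionSystem S}
    (h : C.IsSubnormalIn F p) : p.Prime → IsPGroup p S → Finite S → C.Quasisimple p →
    F.Quasisimple p → SameSys C F := by
  induction h with
  | refl F p => exact fun _ _ _ _ _ => ⟨rfl, fun _ => rfl⟩
  | @step U S C X F p hCX hX ih =>
    intro hp hS hfin hq hF
    haveI : Fact p.Prime := ⟨hp⟩
    have hUS : U ≤ S := hX.1.2.2.2.1.1
    haveI : Finite U := finite_of_le hUS
    by_cases hU : U = S
    · subst hU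
      obtain rfl : X = F := eq_of_le hX.1.2.2.1
        (LayerExists.component_le_of_le hS ⟨IsSubnormalIn.refl F p, hF⟩ hX le_rfl)
      exact ih hp hS hfin hq hF
    · have hVU := Components.le_of_subnormal hCX
      haveI : Finite V := finite_of_le (hVU.trans hUS)
      have hUZ := QuotientNormal.le_center_of_normal_quasisimple hS hF hX.1 hU
      exact absurd (hVU.trans hUZ) (not_le_center (hS.to_le (hVU.trans hUS)) hq fun a ha b hb =>
        (Subgroup.mem_centralizer_iff.1 (F.center_le_centralizer hb) a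
          (center_le_self ha)))
where
  center_le_self {S : Subgroup Ω} {F : FusionSystem S} {a : Ω} (ha : a ∈ F.center) : a ∈ S :=
    (sSup_le fun _ h => h.1 : F.center ≤ S) ha

/-- A component different from the system is a component of a smaller normal subsystem. -/
theorem exists_proper_normal {V S : Subgroup Ω} {C : FusionSystem V} {F : FusionSystem S}
    (h : C.IsSubnormalIn F p) : p.Prime → IsPGroup p S → Finite S → C.Quasisimple p →
    ¬ SameSys C F → ∃ (U : Subgroup Ω) (G : FusionSystem U), G.IsNormalIn F p ∧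
      C.IsComponentIn G p ∧ systemSize G < systemSize F := by
  induction h with
  | refl F p => exact fun _ _ _ _ h => absurd ⟨rfl, fun _ => rfl⟩ h
  | @step U S C X F p hCX hX ih =>
    intro hp hS hfin hq hne
    by_cases hprop : U ≠ S ∨ ∃ P, ¬ F.Hom P ⊆ X.Hom P
    · exact ⟨U, X, hX, ⟨hCX, hq⟩, systemSize_lt hX.1.2.2.2.1.1 hX.1.2.2.1 hprop⟩
    push_neg at hprop
    obtain ⟨hU, hP⟩ := hprop
    subst hU
    obtain rfl : X = F := eq_of_le hX.1.2.2.1 fun P => hP P
    exact ih hp hS hfin hq hne

/-- A quasisimple system is centralized by its proper normal subsystems. -/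
theorem le_centFix_self [Fact p.Prime] [Finite S] (hS : IsPGroup p S) (hq : F.Quasisimple p)
    (hN : N.IsNormalIn F p) (hne : W ≠ S) (hWS : W ≤ S) : S ≤ centFix F N p hWS := by
  have hWZ := QuotientNormal.le_center_of_normal_quasisimple hS hq hN.1 hne
  have hcomm : ∀ s ∈ S, ∀ w ∈ W, s * w = w * s := fun s hs w hw =>
    Subgroup.mem_centralizer_iff.1 (F.center_le_centralizer (hWZ hw)) s hs
  refine le_centFix hS hN (fun s hs => ⟨hs, Subgroup.mem_centralizer_iff.2 fun w hw =>
    (hcomm s hs w hw).symm⟩) fun P φ hφ => ?_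
  have hPW := src_le hφ
  have hfix : ∀ x : P, φ x = x := fun x => QuotientNormal.apply_eq_of_central
    (FusionFactor.isCentral_center F) (hN.1.2.2.1 P hφ) x (hWZ (hPW x.2))
  have hWC : ∀ w ∈ W, w ∈ centralizerIn S S := fun w hw =>
    ⟨hWS hw, Subgroup.mem_centralizer_iff.2 fun s hs => hcomm s hs w hw⟩
  exact ⟨hN.1.2.2.1 P hφ, fun x hx => hWC x (hPW hx), fun x => hWC _ (val_mem hφ x), _,
    subtype_mem (sup_le (hPW.trans hWS) le_rfl), fun x => (hfix x).symm, fun x => rfl⟩

end Cfsg.Agent.Lib.Fusion.Component
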