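/-
A quasisimple system is generated, as far as displacements go, by the elements of order prime to
`p` in the automorphism groups of centric radical subgroups; automorphisms centralized modulo a
central subgroup.
-/
import Cfsg.Agent.Lib.Fusion.Alperin
import Cfsg.Agent.Lib.Fusion.PPowerIndex
import Cfsg.Agent.Lib.Fusion.TrivialAction

set_option autoImplicit false

namespace Cfsg.Agent.Lib.Fusion.Component

open Cfsg Cfsg.FusionSystem

universe u

variable {Ω : Type u} [Group Ω] {S V : Subgroup Ω} {C : FusionSystem V} {p : ℕ}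

/-- The maps whose displacements lie in `X`. -/
def dispSystem (C : FusionSystem V) (X : Subgroup Ω)
    (hX : ∀ a ∈ V, ∀ b ∈ V, a * b * a⁻¹ * b⁻¹ ∈ X) : FusionSystem V where
  Hom P := {φ | φ ∈ C.Hom P ∧ ∀ x : P, (x : Ω)⁻¹ * φ x ∈ X}
  le_of_mem h := C.le_of_mem h.1
  injective_of_mem h := C.injective_of_mem h.1
  conj_mem {P g} hP hg := ⟨C.conj_mem hP hg, fun x => by
    show (x : Ω)⁻¹ * (g * x * g⁻¹) ∈ X
    rw [show (x : Ω)⁻¹ * (g * x * g⁻¹) = (x : Ω)⁻¹ * g * ((x : Ω)⁻¹)⁻¹ * g⁻¹ by group]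
    exact hX _ (V.inv_mem (hP x.2)) _ hg⟩
  comp_mem := by
    rintro P Q φ ψ ⟨hφ, hφX⟩ ⟨hψ, hψX⟩ h
    refine ⟨C.comp_mem hφ hψ h, fun x => ?_⟩
    have := X.mul_mem (hφX x) (hψX ⟨φ x, h x⟩)
    rw [show (x : Ω)⁻¹ * φ x * ((φ x)⁻¹ * ψ ⟨φ x, h x⟩) = (x : Ω)⁻¹ * ψ ⟨φ x, h x⟩ by group] at this
    exact this
  inv_mem := by
    rintro P φ ⟨hφ, hφX⟩
    refine ⟨_, ⟨rangeInv_mem hφ, ?_⟩, fun x => rangeInv_apply _ _ x _⟩
    rintro ⟨_, x, rfl⟩
    show (φ x)⁻¹ * rangeInv φ (C.injective_of_mem hφ) ⟨φ x, ⟨x, rfl⟩⟩ ∈ X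
    have := X.inv_mem (hφX x)
    rw [mul_inv_rev, inv_inv] at this
    exact Eq.mpr (congrArg (fun t => (φ x)⁻¹ * t ∈ X) (rangeInv_apply φ _ x _)) this

/-- A normal `p`-subgroup lies in every Sylow subgroup. -/
theorem le_of_isSylowIn_of_normal [Fact p.Prime] {G : Type*} [Group G] {H K N : Subgroup G}
    [Finite K] (h : IsSylowIn p H K) (hN : IsPGroup p N) (hNK : N ≤ K)
    (hn : ∀ g ∈ K, ∀ x ∈ N, g * x * g⁻¹ ∈ N) : N ≤ H := by
  obtain ⟨k, hk, hle⟩ := h.exists_conj_le hN hNK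
  intro x hx
  refine hle ⟨_, hn k⁻¹ (K.inv_mem hk) x hx, ?_⟩
  show k * (k⁻¹ * x * k⁻¹⁻¹) * k⁻¹ = x
  group

/-- A subgroup containing the commutators and the displacements of the automorphisms of order
prime to `p` of centric radical subgroups contains the group of a quasisimple system. -/
theorem le_of_displacements [Fact p.Prime] [Finite V] (hV : IsPGroup p V) (hq : C.Quasisimple p)
    (X : Subgroup Ω) (hX : ∀ a ∈ V, ∀ b ∈ V, a * b * a⁻¹ * b⁻¹ ∈ X)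
    (h : ∀ Q : Subgroup Ω, C.IsCentric Q → C.IsFullyNormalized Q →
      (∀ N : Subgroup (MulAut Q), N ≤ C.autGroup Q → IsPGroup p N →
        (∀ g ∈ C.autGroup Q, ∀ n ∈ N, g * n * g⁻¹ ∈ N) → N ≤ Inn Q) →
      ∀ α ∈ C.autGroup Q, (orderOf α).Coprime p → ∀ x : Q, (x : Ω)⁻¹ * (α x : Ω) ∈ X) :
    V ≤ X := by
  obtain ⟨hC, hhyp, -⟩ := hq
  set H := dispSystem C X hX with hH
  have key : ∀ Q : Subgroup Ω, C.IsCentric Q → C.IsFullyNormalized Q →
      (∀ N : Subgroup (MulAut Q), N ≤ C.autGroup Q → IsPGroup p N →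
        (∀ g ∈ C.autGroup Q, ∀ n ∈ N, g * n * g⁻¹ ∈ N) → N ≤ Inn Q) →
      C.autGroup Q ≤ H.autGroup Q := by
    intro Q hQc hQn hrad
    refine (autGroup_le_pResidual_sup hV hC hQn).trans (sup_le ?_ ?_)
    · rintro _ ⟨⟨a, ha⟩, har, rfl⟩
      refine (Subgroup.closure_le ((H.autGroup Q).comap (C.autGroup Q).subtype)).2 ?_ har
      rintro ⟨b, hb⟩ hco
      refine (mem_autGroup hQn.1).2 ⟨autGroup_hom_mem hQn.1 hb, h Q hQc hQn hrad b hb ?_⟩
      rw [← Subgroup.orderOf_mk b hb]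
      exact hco
    · exact autInducedBy_le_autGroup hQn.1
  have hle : C ≤ H := by
    refine le_of_autGroup_le hV hC H (key V ⟨le_rfl, fun R hR => ?_⟩ (isFullyNormalized_top C)
      fun N hN hNp hn => ?_) fun P hP => key P hP.1 hP.2.1 fun N hN hNp hn => ?_
    · obtain ⟨φ, hφ, rfl⟩ := hR
      intro y hy
      obtain ⟨x, hx⟩ := exists_eq_of_range_le hφ hy.1
      exact ⟨x, hx⟩
    · haveI := finite_mulAut (S := V) (le_refl V)
      obtain ⟨-, hsyl⟩ := isFullyAutomized_iff.1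
        (isFullyAutomized_of_isFullyNormalized hV hC (isFullyNormalized_top C))
      rw [inn_eq_autInducedBy]
      exact le_of_isSylowIn_of_normal hsyl hNp hN hn
    · obtain ⟨-, hrad⟩ := isRadical_of_isEssential hV hP
      rw [← hrad]
      intro n hn'
      refine ⟨⟨n, hN hn'⟩, (le_sSup ?_ : N.subgroupOf (C.autGroup P) ≤ pCore p _) hn', rfl⟩
      refine ⟨⟨fun a ha g => ?_⟩, hNp.comap_subtype⟩
      exact hn g g.2 a ha
  refine hhyp.ge.trans ((Subgroup.closure_le _).2 ?_)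
  rintro _ ⟨P, α, x, hP, -, rfl⟩
  exact (hle P (autGroup_hom_mem hP α.2)).2 x
where
  exists_eq_of_range_le [Finite V] {C : FusionSystem V} {φ : V →* Ω} (hφ : φ ∈ C.Hom V) {y : Ω}
      (hy : y ∈ V) : ∃ x, φ x = y := by
    have h := range_eq_self hφ fun x => val_mem hφ x
    exact h.ge hy

/-- An automorphism `α` can be corrected by a product of its commutators with the powers of `γ`
so as to commute with `γ`. -/
theorem exists_commute_correction {G : Type*} [Group G] (α γ : G) {n : ℕ} (hn : γ ^ n = 1)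
    (A : Subgroup G) (hA : ∀ i : ℕ, α⁻¹ * γ ^ i * α * (γ ^ i)⁻¹ ∈ A)
    (hAc : ∀ a ∈ A, ∀ b ∈ A, a * b = b * a) (hAn : ∀ a ∈ A, γ * a * γ⁻¹ ∈ A)
    (hco : ∀ a ∈ A, n.Coprime (orderOf a)) :
    ∃ b ∈ A, γ * (α * b) * γ⁻¹ = α * b := by
  set f : ℕ → G := fun i => α⁻¹ * γ ^ i * α * (γ ^ i)⁻¹ with hf
  set a := f 1 with ha
  have hfsucc : ∀ i, f (i + 1) = a * (γ * f i * γ⁻¹) := by
    intro i
    simp only [ha, hf, pow_one]
    rw [pow_succ' γ i]
    group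
  let P : ℕ → G := fun i => Nat.rec 1 (fun j r => r * f j) i
  have hP : ∀ i, P i ∈ A ∧ γ * P i * γ⁻¹ * a ^ i = P i * f i := by
    intro i
    induction i with
    | zero => exact ⟨one_mem _, by simp [P, hf]⟩
    | succ i ih =>
      obtain ⟨hPA, hPe⟩ := ih
      refine ⟨A.mul_mem hPA (hA i), ?_⟩
      show γ * (P i * f i) * γ⁻¹ * a ^ (i + 1) = P i * f i * f (i + 1)
      have hc : γ * f i * γ⁻¹ * a ^ i = a ^ i * (γ * f i * γ⁻¹) :=
        hAc _ (hAn _ (hA i)) _ (A.pow_mem (hA 1) i)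
      calc γ * (P i * f i) * γ⁻¹ * a ^ (i + 1)
          = γ * P i * γ⁻¹ * (γ * f i * γ⁻¹ * a ^ i) * a := by rw [pow_succ]; group
        _ = γ * P i * γ⁻¹ * a ^ i * (γ * f i * γ⁻¹ * a) := by rw [hc]; group
        _ = P i * f i * (a * (γ * f i * γ⁻¹)) := by
            rw [hPe, hAc _ (hAn _ (hA i)) _ (hA 1)]
        _ = P i * f i * f (i + 1) := by rw [hfsucc]
  obtain ⟨hPA, hPn⟩ := hP n
  rw [show f n = 1 by simp [hf, hn], mul_one] at hPn
  obtain ⟨m, hm⟩ := exists_pow_eq_self_of_coprime (hco a (hA 1))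
  refine ⟨P n ^ m, A.pow_mem hPA m, ?_⟩
  have h1 : Commute (γ * P n * γ⁻¹) (a ^ n) := hAc _ (hAn _ hPA) _ (A.pow_mem (hA 1) n)
  have h2 : γ * P n ^ m * γ⁻¹ * a = P n ^ m := by
    have := h1.mul_pow m
    rw [hPn, conj_pow, hm] at this
    exact this.symm
  have h3 : γ * α = α * a * γ := by simp [ha, hf]; group
  have h4 : a * (γ * P n ^ m * γ⁻¹) = P n ^ m := by
    rw [hAc _ (hA 1) _ (hAn _ (A.pow_mem hPA m))]
    exact h2
  calc γ * (α * P n ^ m) * γ⁻¹ = γ * α * (P n ^ m * γ⁻¹) := by group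
    _ = α * (a * (γ * P n ^ m * γ⁻¹)) := by rw [h3]; group
    _ = α * P n ^ m := by rw [h4]

/-- An automorphism trivial modulo a central subgroup and fixing it is a `p`-element. -/
theorem pow_eq_one_of_disp [Fact p.Prime] [Finite S] (hS : IsPGroup p S) {Q : Subgroup Ω} (hQS : Q ≤ S)
    {g : MulAut Q} {D : Subgroup Ω} (hd : ∀ x : Q, (x : Ω)⁻¹ * (g x : Ω) ∈ D)
    (hfix : ∀ z : Q, (z : Ω) ∈ D → g z = z) : ∃ k : ℕ, g ^ p ^ k = 1 := by
  obtain ⟨k, hk⟩ : ∃ k, ∀ x : S, x ^ p ^ k = 1 := by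
    obtain ⟨k, hk⟩ := IsPGroup.iff_card.1 hS
    exact ⟨k, fun x => by rw [← hk]; exact pow_card_eq_one'⟩
  refine ⟨k, MulEquiv.ext fun x => ?_⟩
  have hq : ((x⁻¹ * g x : Q) : Ω) ∈ D := hd x
  have hit : ∀ n : ℕ, (g ^ n) x = x * (x⁻¹ * g x) ^ n := by
    intro n
    induction n with
    | zero => simp
    | succ n ih =>
      rw [pow_succ' g, MulAut.mul_apply, ih, map_mul, map_pow, hfix _ hq, pow_succ' _ n,
        ← mul_assoc x, mul_inv_cancel_left]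
  rw [hit, MulAut.one_apply]
  have h1 : (x⁻¹ * g x) ^ p ^ k = 1 := Subtype.ext (by
    have h2 := congrArg Subtype.val (hk ⟨_, hQS (x⁻¹ * g x).2⟩)
    rw [SubmonoidClass.coe_pow] at h2 ⊢
    exact h2)
  rw [h1, mul_one]

end Cfsg.Agent.Lib.Fusion.Component
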