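/-
A component centralizes the group of a normal subsystem not containing it: the inductive steps.
-/
import Cfsg.Agent.Lib.Fusion.Component.Basic
import Cfsg.Agent.Lib.Fusion.Component.Generate
import Cfsg.Agent.Lib.Fusion.DispLiftExists
import Cfsg.Agent.Lib.Fusion.CentralizerSystemNormal
import Cfsg.Agent.Lib.Fusion.Wedge.Basic
import Cfsg.Agent.S5154

set_option autoImplicit false

namespace Cfsg.Agent.Lib.Fusion.Component

open Cfsg Cfsg.FusionSystem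

universe u

variable {Ω : Type u} [Group Ω] {S U V W : Subgroup Ω} {F : FusionSystem S} {C : FusionSystem V}
  {G : FusionSystem U} {p : ℕ}

/-- A component `C` of the normal subsystem `G`, and a strongly closed `W` meeting it centrally,
whose part inside `U` commutes with the conjugates of the group of `C`. -/
structure Setting (F : FusionSystem S) (G : FusionSystem U) (C : FusionSystem V) (W : Subgroup Ω)
    (p : ℕ) : Prop where
  hS : IsPGroup p S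
  hG : G.IsNormalIn F p
  hCG : C.IsComponentIn G p
  hW : F.StronglyClosed W
  hZ : V ⊓ W ≤ C.center
  hM : ∀ (Q : Subgroup Ω) (φ : Q →* Ω), φ ∈ F.Hom Q → Q ≤ V → ∀ (x : Q), ∀ m ∈ U ⊓ W,
    φ x * m = m * φ x
  hB : ∀ (V' : Subgroup Ω) (C' : FusionSystem V'), C'.IsComponentIn G p →
    SameSys C C' ∨ ∀ a ∈ V, ∀ b ∈ V', a * b = b * a

theorem Setting.hVU (c : Setting F G C W p) : V ≤ U := Components.le_of_subnormal c.hCG.1

theorem Setting.hUS (c : Setting F G C W p) : U ≤ S := c.hG.1.2.2.2.1.1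

theorem Setting.hCF (c : Setting F G C W p) : C.IsComponentIn F p :=
  ⟨IsSubnormalIn.step c.hCG.1 c.hG, c.hCG.2⟩

theorem Setting.hCGsub (c : Setting F G C W p) : C.IsSubsystemOf G :=
  isSubsystemOf_of_subnormal c.hCG.1

theorem Setting.comm (c : Setting F G C W p) {v m : Ω} (hv : v ∈ V) (hm : m ∈ U ⊓ W) :
    v * m = m * v :=
  c.hM V V.subtype (subtype_mem (c.hVU.trans c.hUS)) le_rfl ⟨v, hv⟩ m hm

theorem Setting.central (c : Setting F G C W p) {v z : Ω} (hv : v ∈ V) (hz : z ∈ V ⊓ W) :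
    v * z = z * v :=
  Subgroup.mem_centralizer_iff.1 (C.center_le_centralizer (c.hZ hz)) v hv

/-- A map of `F` moving `V` inside cosets of `W` preserves the component. -/
theorem Setting.preserved [Fact p.Prime] [Finite S] (c : Setting F G C W p) {γ : V →* Ω}
    (hγ : γ ∈ F.Hom V) (hd : ∀ x : V, (x : Ω)⁻¹ * γ x ∈ W) :
    (∀ x, γ x ∈ V) ∧ ∀ (P : Subgroup Ω) (φ : P →* Ω), φ ∈ C.Hom P →
      ∃ χ ∈ C.Hom (imgSub γ P), ∀ (x : P) (hx : (x : Ω) ∈ V) (hφ : φ x ∈ V)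
        (hm : γ ⟨x, hx⟩ ∈ imgSub γ P), χ ⟨γ ⟨x, hx⟩, hm⟩ = γ ⟨φ x, hφ⟩ := by
  classical
  have hVS := c.hVU.trans c.hUS
  haveI : Finite V := finite_of_le hVS
  have hUc := c.hG.1.2.2.2.1
  have hsc : C.StronglyClosed ⊥ := ⟨bot_le, fun R hR φ hφ x => by
    rw [show x = 1 from Subtype.ext (Subgroup.mem_bot.1 (hR x.2)), map_one]
    exact one_mem _⟩
  obtain ⟨C', hC'⟩ := FusionFactor.exists_factorSystem γ C hsc (S' := γ.range)
    (fun s => by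
      rw [Subgroup.mem_bot, ← OneMemClass.coe_one V, Subtype.coe_inj]
      exact map_eq_one_iff γ (F.injective_of_mem hγ)) rfl
  have hC'F := Cfsg.Agent.S5154.result p c.hS F c.hG.1.2.1 C c.hCF γ hγ C' hC'
  have hrU : γ.range ≤ U := by
    rintro _ ⟨x, rfl⟩
    exact hUc.2 V c.hVU γ hγ x
  have hdm : ∀ x : V, (x : Ω)⁻¹ * γ x ∈ U ⊓ W := fun x =>
    ⟨U.mul_mem (U.inv_mem (c.hVU x.2)) (hrU ⟨x, rfl⟩), hd x⟩
  obtain ⟨he, hHom⟩ : SameSys C C' := by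
    refine (c.hB _ C' (isComponentIn_of_le c.hS hC'F c.hG hrU)).resolve_right fun hcomm => ?_
    refine not_le_center (c.hS.to_le hVS) c.hCG.2 (R := V) (fun a ha b hb => ?_) le_rfl
    set m := b⁻¹ * γ ⟨b, hb⟩ with hm
    have h1 : a * γ ⟨b, hb⟩ = γ ⟨b, hb⟩ * a := hcomm a ha _ ⟨_, rfl⟩
    have h2 : a * m = m * a := c.comm ha (hdm ⟨b, hb⟩)
    rw [show γ ⟨b, hb⟩ = b * m by rw [hm, mul_inv_cancel_left]] at h1
    calc a * b = a * (b * m) * m⁻¹ := by group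
      _ = b * (m * a) * m⁻¹ := by rw [h1]; group
      _ = b * (a * m) * m⁻¹ := by rw [h2]
      _ = b * a := by group
  refine ⟨fun x => he.ge ⟨x, rfl⟩, fun P φ hφ => ?_⟩
  obtain ⟨φ', hφ', hP, hφV, hmem, hind⟩ := (isSurjectiveMorphism_of_isFactorSystem
    (c.hS.to_le hVS) c.hCG.2.1 hsc hC').1.2 P φ hφ
  rw [← hHom] at hφ'
  exact ⟨φ', hφ', fun x hx hφx hm => hind x⟩

/-- The automorphisms moving elements inside cosets of `W` and acting on `W` by powers of `c`. -/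
def twistGroup (F : FusionSystem S) (W : Subgroup Ω) {Q : Subgroup Ω} [Finite (MulAut Q)]
    (c : MulAut Q) (hc : ∀ z : Q, (z : Ω) ∈ W → (c z : Ω) ∈ W) : Subgroup (MulAut Q) :=
  let K : Submonoid (MulAut Q) :=
    { carrier := {g | g ∈ F.autGroup Q ∧ (∀ x : Q, (x : Ω)⁻¹ * (g x : Ω) ∈ W) ∧
        ∃ n : ℕ, ∀ z : Q, (z : Ω) ∈ W → g z = (c ^ n) z}
      one_mem' := ⟨one_mem _, fun x => by
        show (x : Ω)⁻¹ * (x : Ω) ∈ W
        rw [inv_mul_cancel]; exact one_mem _, 0, fun z _ => rfl⟩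
      mul_mem' := by
        rintro g h ⟨hgF, hgW, n, hgn⟩ ⟨hhF, hhW, m, hhm⟩
        refine ⟨mul_mem hgF hhF, fun x => ?_, n + m, fun z hz => ?_⟩
        · have := W.mul_mem (hhW x) (hgW (h x))
          rwa [mul_assoc, mul_inv_cancel_left] at this
        · have hcm : ((c ^ m) z : Ω) ∈ W := by
            clear hhm
            induction m with
            | zero => exact hz
            | succ m ih =>
              rw [pow_succ', MulAut.mul_apply]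
              exact hc _ ih
          rw [MulAut.mul_apply, hhm z hz, hgn _ hcm, pow_add, MulAut.mul_apply] }
  { K with
    inv_mem' := fun {a} ha => by
      obtain ⟨n, hn⟩ : a⁻¹ ∈ Submonoid.powers a :=
        mem_powers_iff_mem_zpowers.2 (inv_mem (Subgroup.mem_zpowers a))
      exact hn ▸ Submonoid.pow_mem K ha n }

/-- `W` centralizes the group of the component. -/
theorem Setting.commute [Fact p.Prime] [Finite S] (c : Setting F G C W p) {v w : Ω} (hv : v ∈ V)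
    (hw : w ∈ W) : v * w = w * v := by
  classical
  have hVU := c.hVU
  have hVS := hVU.trans c.hUS
  haveI : Finite V := finite_of_le hVS
  haveI : Finite U := finite_of_le c.hUS
  obtain ⟨hGs, hF, hGinv⟩ := id c.hG.1
  have hstr := stronglyInvariant_of_isWeaklyNormalIn c.hS c.hG.1
  have hwS : w ∈ S := c.hW.1 hw
  have hWn : ∀ s ∈ S, ∀ y ∈ W, s * y * s⁻¹ ∈ W := fun s hs y hy =>
    c.hW.2 W le_rfl _ (F.conj_mem c.hW.1 hs) ⟨y, hy⟩
  have hd : ∀ x ∈ V, x⁻¹ * (w * x * w⁻¹) ∈ W := fun x hx => by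
    rw [show x⁻¹ * (w * x * w⁻¹) = x⁻¹ * w * x⁻¹⁻¹ * w⁻¹ by group]
    exact W.mul_mem (hWn _ (S.inv_mem (hVS hx)) w hw) (W.inv_mem hw)
  obtain ⟨hwV, hwC⟩ := c.preserved (γ := conjHom V w) (F.conj_mem hVS hwS) fun x => hd x x.2
  have hwV' : ∀ x ∈ V, w * x * w⁻¹ ∈ V := fun x hx => hwV ⟨x, hx⟩
  have hcomm : ∀ x ∈ V, x⁻¹ * (w * x * w⁻¹) ∈ V ⊓ W := fun x hx =>
    ⟨V.mul_mem (V.inv_mem hx) (hwV' x hx), hd x hx⟩
  suffices hle : V ≤ V ⊓ Subgroup.centralizer {w} from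
    ((Subgroup.mem_centralizer_iff.1 (hle hv).2) w rfl).symm
  refine le_of_displacements (c.hS.to_le hVS) c.hCG.2 _ (fun a ha b hb => ?_)
    fun Q hQc hQn hrad α hα hco x => ?_
  · refine ⟨V.mul_mem (V.mul_mem (V.mul_mem ha hb) (V.inv_mem ha)) (V.inv_mem hb),
      Subgroup.mem_centralizer_iff.2 ?_⟩
    intro u hu
    rw [Set.mem_singleton_iff.1 hu]
    obtain ⟨z, hz, hza⟩ : ∃ z ∈ V ⊓ W, w * a * w⁻¹ = a * z :=
      ⟨_, hcomm a ha, by group⟩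
    obtain ⟨z', hz', hzb⟩ : ∃ z' ∈ V ⊓ W, w * b * w⁻¹ = b * z' :=
      ⟨_, hcomm b hb, by group⟩
    have key : w * (a * b * a⁻¹ * b⁻¹) * w⁻¹ = a * b * a⁻¹ * b⁻¹ :=
      calc w * (a * b * a⁻¹ * b⁻¹) * w⁻¹
          = w * a * w⁻¹ * (w * b * w⁻¹) * (w * a * w⁻¹)⁻¹ * (w * b * w⁻¹)⁻¹ := by group
        _ = a * (z * b) * z' * z⁻¹ * a⁻¹ * z'⁻¹ * b⁻¹ := by rw [hza, hzb]; group
        _ = a * (b * z) * z' * z⁻¹ * a⁻¹ * z'⁻¹ * b⁻¹ := by rw [c.central hb hz]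
        _ = a * b * (z * z') * z⁻¹ * a⁻¹ * z'⁻¹ * b⁻¹ := by group
        _ = a * b * (z' * z) * z⁻¹ * a⁻¹ * z'⁻¹ * b⁻¹ := by rw [c.central hz.1 hz']
        _ = a * b * (z' * a⁻¹) * z'⁻¹ * b⁻¹ := by group
        _ = a * b * (a⁻¹ * z') * z'⁻¹ * b⁻¹ := by rw [c.central (V.inv_mem ha) hz']
        _ = a * b * a⁻¹ * b⁻¹ := by group
    exact mul_inv_eq_iff_eq_mul.1 key
  -- an automorphism of order prime to `p` commutes with `w`
  have hQV : Q ≤ V := hQc.1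
  have hQS : Q ≤ S := hQV.trans hVS
  haveI : Finite Q := finite_of_le hQS
  haveI := finite_mulAut (S := S) hQS
  have hZQ : V ⊓ W ≤ Q := fun z hz => centralizerIn_le_of_isCentric hQc
    ⟨hz.1, Subgroup.mem_centralizer_iff.2 fun y hy => c.central (hQV hy) hz⟩
  have hwQ1 : ∀ y ∈ Q, w * y * w⁻¹ ∈ Q := fun y hy => by
    rw [show w * y * w⁻¹ = y * (y⁻¹ * (w * y * w⁻¹)) by group]
    exact Q.mul_mem hy (hZQ (hcomm y (hQV hy)))
  obtain ⟨g₀, hg₀, hg₀x⟩ := exists_aut_of_hom (F := F) (F.conj_mem hQS hwS) fun y => hwQ1 y y.2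
  have hg₀W : ∀ y : Q, (y : Ω) ∈ W → (g₀ y : Ω) ∈ W := fun y hy => by
    rw [hg₀x]; exact hWn w hwS y hy
  -- `C` fixes `Q ⊓ W`
  have hfixW : ∀ g ∈ C.autGroup Q, ∀ z : Q, (z : Ω) ∈ W → g z = z := fun g hg z hz =>
    Subtype.ext (QuotientNormal.apply_eq_of_central (FusionFactor.isCentral_center C)
      (autGroup_hom_mem hQV hg) z (c.hZ ⟨hQV z.2, hz⟩))
  set A := twistGroup F W g₀ hg₀W with hA
  have hg₀pow : ∀ (n : ℕ) (y : Q), ((g₀ ^ n) y : Ω) = w ^ n * y * (w ^ n)⁻¹ := by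
    intro n
    induction n with
    | zero => intro y; simp
    | succ n ih =>
      intro y
      rw [pow_succ' g₀, MulAut.mul_apply, hg₀x, conjHom_apply, ih, pow_succ' w]
      group
  obtain ⟨k₀, hk₀⟩ : ∃ k, ∀ n, g₀ ^ (n * p ^ k) = 1 := by
    obtain ⟨k, hk⟩ := c.hS ⟨w, hwS⟩
    have hk' : w ^ p ^ k = 1 := congrArg Subtype.val hk
    exact ⟨k, fun n => MulEquiv.ext fun y => Subtype.ext (by
      rw [hg₀pow, mul_comm n, pow_mul, hk', one_pow]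
      simp)⟩
  have hAp : IsPGroup p A := by
    rintro ⟨g, hgF, hgd, n, hgn⟩
    have hd' : ∀ (i : ℕ) (y : Q), (y : Ω)⁻¹ * ((g ^ i) y : Ω) ∈ W ∧
        ((y : Ω) ∈ W → (g ^ i) y = (g₀ ^ (n * i)) y) := by
      intro i
      induction i with
      | zero => intro y; exact ⟨by simp, fun _ => by simp⟩
      | succ i ih =>
        intro y
        refine ⟨?_, fun hy => ?_⟩
        · have := W.mul_mem (ih y).1 (hgd ((g ^ i) y))
          rw [mul_assoc, mul_inv_cancel_left] at this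
          rwa [pow_succ', MulAut.mul_apply]
        · have hy' : ((g ^ i) y : Ω) ∈ W := by
            have := W.mul_mem hy (ih y).1
            rwa [mul_inv_cancel_left] at this
          rw [pow_succ', MulAut.mul_apply, hgn _ hy', (ih y).2 hy, ← MulAut.mul_apply, ← pow_add]
          congr 2
          ring
    obtain ⟨k, hk⟩ := pow_eq_one_of_disp (p := p) c.hS hQS (g := g ^ p ^ k₀) (D := W)
      (fun y => (hd' _ y).1) fun z hz => by
        rw [(hd' _ z).2 hz, hk₀]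
        rfl
    exact ⟨k₀ + k, Subtype.ext (by rw [SubmonoidClass.coe_pow, pow_add, pow_mul]; exact hk)⟩
  have hCconj : ∀ g ∈ C.autGroup Q, ∀ n ∈ A, g * n * g⁻¹ ∈ A := by
    rintro g hg n ⟨hnF, hnd, i, hni⟩
    have hgF := autGroup_mono (isSubsystemOf_of_subnormal c.hCF.1) Q hg
    have hgi : ∀ z : Q, (z : Ω) ∈ W → g⁻¹ z = z := fun z hz =>
      hfixW _ (Subgroup.inv_mem _ hg) z hz
    refine ⟨mul_mem (mul_mem hgF hnF) (Subgroup.inv_mem _ hgF), fun y => ?_, i, fun z hz => ?_⟩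
    · obtain ⟨y, rfl⟩ := g.surjective y
      rw [MulAut.mul_apply, MulAut.mul_apply, MulAut.inv_apply_self]
      have h1 : ((y⁻¹ * n y : Q) : Ω) ∈ W := hnd y
      have e : ((g y)⁻¹ * g (n y) : Q) = y⁻¹ * n y := by
        rw [← map_inv, ← map_mul]
        exact hfixW g hg _ h1
      have := congrArg Subtype.val e
      rw [Subgroup.coe_mul, Subgroup.coe_inv] at this
      rw [this]
      exact h1
    · rw [MulAut.mul_apply, MulAut.mul_apply, hgi z hz, hni z hz, hfixW g hg]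
      have hd1 : (z : Ω)⁻¹ * (n z : Ω) ∈ W := hnd z
      have := W.mul_mem hz hd1
      rw [mul_inv_cancel_left, hni z hz] at this
      exact this
  have hg₀A : g₀ ∈ A := ⟨hg₀, fun y => by rw [hg₀x]; exact hd y (hQV y.2), 1,
    fun z _ => by rw [pow_one]⟩
  have hg₀C : ∀ g ∈ C.autGroup Q, g₀ * g * g₀⁻¹ ∈ C.autGroup Q := by
    intro g hg
    obtain ⟨χ, hχ, hχx⟩ := hwC Q (autHom g) (autGroup_hom_mem hQV hg)
    refine (mem_autGroup hQV).2 (mem_of_restrict hχ (fun y hy => ?_) fun y => ?_)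
    · obtain ⟨z, hz⟩ := g₀.surjective ⟨y, hy⟩
      rw [show y = (g₀ z : Ω) from congrArg Subtype.val hz.symm, hg₀x]
      exact mem_imgSub.2 ⟨⟨z, hQV z.2⟩, z.2, rfl⟩
    · obtain ⟨z, rfl⟩ := g₀.surjective y
      have hm : conjHom V w ⟨z, hQV z.2⟩ ∈ imgSub (conjHom V w) Q :=
        apply_mem_imgSub _ ⟨(z : Ω), hQV z.2⟩ z.2
      refine Eq.trans ?_ ((hχx z (hQV z.2) (hQV (g z).2) hm).symm.trans
        (congrArg χ (Subtype.ext (hg₀x z).symm)))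
      show ((g₀ * g * g₀⁻¹) (g₀ z) : Ω) = _
      rw [MulAut.mul_apply, MulAut.mul_apply, MulAut.inv_apply_self, hg₀x]
      rfl
  set a := α * g₀ * α⁻¹ * g₀⁻¹ with ha
  have haA : a ∈ A := A.mul_mem (hCconj α hα g₀ hg₀A) (A.inv_mem hg₀A)
  have haC : a ∈ C.autGroup Q := by
    rw [show a = α * (g₀ * α⁻¹ * g₀⁻¹) by rw [ha]; group]
    exact Subgroup.mul_mem _ hα (hg₀C _ (Subgroup.inv_mem _ hα))
  obtain ⟨g, hg, hgx⟩ : ∃ g ∈ Q, ∀ y : Q, (a y : Ω) = g * y * g⁻¹ := by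
    have := hrad (A ⊓ C.autGroup Q) inf_le_right (hAp.to_le inf_le_left) (fun b hb n hn =>
      ⟨hCconj b hb n hn.1, Subgroup.mul_mem _ (Subgroup.mul_mem _ hb hn.2)
        (Subgroup.inv_mem _ hb)⟩) ⟨haA, haC⟩
    rw [inn_eq_autInducedBy] at this
    exact mem_autInducedBy.1 this
  -- a fully normalized conjugate
  obtain ⟨Q', ⟨φ₀, hφ₀, hr₀⟩, hQ'⟩ := exists_isFullyNormalized_conj F hQS
  haveI := finite_mulAut (S := S) hQ'.1
  set e₀ := isoOnto φ₀ (F.injective_of_mem hφ₀) hr₀ with he₀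
  have he₀m : Q'.subtype.comp e₀.toMonoidHom ∈ F.Hom Q := mem_congr hφ₀ fun y => rfl
  obtain ⟨-, hsyl⟩ := isFullyAutomized_iff.1 (isFullyAutomized_of_isFullyNormalized c.hS hF hQ')
  obtain ⟨δ, hδ, hδle⟩ := hsyl.exists_conj_le (hAp.map (MulAut.congr e₀).toMonoidHom) (by
    rintro _ ⟨n, hn, rfl⟩
    exact congr_mem_autGroup e₀ he₀m hn.1)
  set e : Q ≃* Q' := e₀.trans δ with he
  obtain ⟨φ, hφ, hφx⟩ := exists_comp he₀m (autGroup_hom_mem hQ'.1 hδ) fun y => (e₀ y).2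
  have heA : ∀ n ∈ A, MulAut.congr e n ∈ autInducedBy S Q' := fun n hn => by
    have h := hδle ⟨_, ⟨n, hn, rfl⟩, rfl⟩
    convert h using 1
    exact MulEquiv.ext fun y => rfl
  have hem : Q'.subtype.comp e.toMonoidHom ∈ F.Hom Q := mem_congr hφ fun y => (hφx y).symm
  have hecongr : ∀ (n : MulAut Q) (y : Q), MulAut.congr e n (e y) = e (n y) := fun n y => by
    show e (n (e.symm (e y))) = e (n y)
    rw [e.symm_apply_apply]
  have hQ'rec := isReceptive_of_isFullyNormalized c.hS hF hQ'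
  -- `w` goes to an element of `W`
  obtain ⟨η, hη, hηx⟩ := hQ'rec.2 Q (Q'.subtype.comp e.toMonoidHom) hem (by
    refine le_antisymm ?_ fun y hy => ⟨e.symm ⟨y, hy⟩, congrArg Subtype.val (e.apply_symm_apply _)⟩
    rintro _ ⟨y, rfl⟩
    exact (e y).2)
  have hwN : w ∈ Subgroup.normalizer (Q : Set Ω) :=
    mem_normalizer_of_aut (α := g₀) fun y => hg₀x y
  obtain ⟨t, ht, htx⟩ := mem_autInducedBy.1 (heA g₀ hg₀A)
  have hwext : w ∈ extender S Q (Q'.subtype.comp e.toMonoidHom) := by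
    refine mem_extender.2 ⟨hwS, hwN, t, ht, fun y hy => ?_⟩
    show (e ⟨_, hy⟩ : Ω) = t * (e y : Ω) * t⁻¹
    rw [← htx, hecongr]
    exact congrArg (fun z : Q => (e z : Ω)) (Subtype.ext (hg₀x y).symm)
  set w' := η ⟨w, hwext⟩ with hw'def
  have hw' : w' ∈ W := stronglyClosed_map c.hW hη _ hw
  have hQN : Q ≤ extender S Q (Q'.subtype.comp e.toMonoidHom) := le_extender hem
  have hw'x : ∀ y : Q, (MulAut.congr e g₀ (e y) : Ω) = w' * (e y : Ω) * w'⁻¹ := by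
    intro y
    rw [hecongr]
    have h1 : ∀ z : Q, η ⟨z, hQN z.2⟩ = (e z : Ω) := fun z => hηx z z.2 (hQN z.2)
    rw [← h1, ← h1, hw'def, ← map_inv, ← map_mul, ← map_mul]
    exact congrArg η (Subtype.ext (hg₀x y))
  -- `α` goes to an automorphism in `G`, extending over `w'`
  have hQ'U : Q' ≤ U := by
    intro y hy
    rw [show y = (Q'.subtype.comp e.toMonoidHom) (e.symm ⟨y, hy⟩) from
      (congrArg Subtype.val (e.apply_symm_apply ⟨y, hy⟩)).symm]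
    exact c.hG.1.2.2.2.1.2 Q (hQV.trans hVU) _ hem _
  set α' := MulAut.congr e α with hα'def
  have hα'G : α' ∈ G.autGroup Q' := Wedge.congr_mem_autGroup_of_stronglyInvariant hstr e hem
    (hQV.trans hVU) (autGroup_mono c.hCGsub Q hα)
  have hα'F := autGroup_mono hGinv.1 Q' hα'G
  have hα'Fm := autGroup_hom_mem hQ'.1 hα'F
  obtain ⟨ψ, hψ, hψx⟩ := hQ'rec.2 Q' (autHom α') hα'Fm (range_autHom α')
  obtain ⟨t₂, ht₂, ht₂x⟩ := mem_autInducedBy.1 (heA _ (hCconj α hα g₀ hg₀A))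
  have hw'N : w' ∈ Subgroup.normalizer (Q' : Set Ω) :=
    mem_normalizer_of_aut (α := MulAut.congr e g₀) fun y => by
      obtain ⟨y, rfl⟩ := e.surjective y
      exact hw'x y
  have hw'ext : w' ∈ extender S Q' (autHom α') := by
    refine mem_extender.2 ⟨c.hW.1 hw', hw'N, t₂, ht₂, fun y hy => ?_⟩
    obtain ⟨y, rfl⟩ := e.surjective y
    show (α' ⟨_, hy⟩ : Ω) = t₂ * (α' (e y) : Ω) * t₂⁻¹
    rw [hecongr α, ← ht₂x, hecongr, MulAut.mul_apply, MulAut.mul_apply, MulAut.inv_apply_self,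
      ← hecongr α (g₀ y)]
    refine congrArg (fun z : Q' => (α' z : Ω)) (Subtype.ext ?_)
    rw [← hecongr, hw'x]
  set w'' := ψ ⟨w', hw'ext⟩ with hw''def
  have hw'' : w'' ∈ W := stronglyClosed_map c.hW hψ _ hw'
  have hQ'N : Q' ≤ extender S Q' (autHom α') := le_extender hα'Fm
  set d := w'' * w'⁻¹ with hddef
  have hdW : d ∈ W := W.mul_mem hw'' (W.inv_mem hw')
  have hψQ : ∀ z : Q', ψ ⟨z, hQ'N z.2⟩ = (α' z : Ω) := fun z => hψx z z.2 (hQ'N z.2)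
  have hdx : ∀ y : Q, d * (e y : Ω) * d⁻¹ = (e (a y) : Ω) := by
    intro y
    set z := g₀⁻¹ y with hz
    have hy : g₀ z = y := MulAut.apply_inv_self _ g₀ y
    have h1 : w'⁻¹ * (e y : Ω) * w' = (e z : Ω) := by
      rw [← hy, ← hecongr, hw'x]
      group
    have h2 : w'' * (e z : Ω) * w''⁻¹ = (e (α (g₀ (α⁻¹ z))) : Ω) := by
      set u := α⁻¹ z with hu
      have hu' : α u = z := MulAut.apply_inv_self _ α z
      have h3 : (α' (e u) : Ω) = (e z : Ω) := by rw [hecongr, hu']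
      have h4 : (e (α (g₀ u)) : Ω) = (α' (e (g₀ u)) : Ω) := by rw [hecongr]
      rw [← h3, h4, ← hψQ, ← hψQ, hw''def, ← map_inv, ← map_mul, ← map_mul]
      refine congrArg ψ (Subtype.ext ?_)
      show w' * (e u : Ω) * w'⁻¹ = (e (g₀ u) : Ω)
      rw [← hw'x, hecongr]
    rw [hddef, show w'' * w'⁻¹ * (e y : Ω) * (w'' * w'⁻¹)⁻¹ =
      w'' * (w'⁻¹ * (e y : Ω) * w') * w''⁻¹ by group, h1, h2]
    rfl
  set g' := (e ⟨g, hg⟩ : Ω) with hg'
  have hgx' : ∀ y : Q, (e (a y) : Ω) = g' * (e y : Ω) * g'⁻¹ := by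
    intro y
    rw [show a y = ⟨g, hg⟩ * y * (⟨g, hg⟩ : Q)⁻¹ from Subtype.ext (hgx y), map_mul, map_mul,
      map_inv]
    rfl
  -- a lift over the centralizer
  obtain ⟨hQ'S, β, hβ, hag⟩ := exists_dispLift c.hS c.hG hQ'U hQ' hα'G
  have hs : g'⁻¹ * d ∈ centralizerIn S Q' := by
    refine ⟨S.mul_mem (S.inv_mem (hQ'S (e ⟨g, hg⟩).2)) (c.hW.1 hdW),
      Subgroup.mem_centralizer_iff.2 fun y hy => ?_⟩
    obtain ⟨y', hy'⟩ := e.surjective ⟨y, hy⟩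
    have e1 := (hgx' y').symm.trans (hdx y').symm
    rw [show (e y' : Ω) = y from congrArg Subtype.val hy'] at e1
    calc y * (g'⁻¹ * d) = g'⁻¹ * (g' * y * g'⁻¹) * d := by group
      _ = g'⁻¹ * (d * y * d⁻¹) * d := by rw [e1]
      _ = g'⁻¹ * d * y := by group
  have hdmem : d ∈ cenSup S Q' := by
    rw [show d = g' * (g'⁻¹ * d) by group]
    exact Subgroup.mul_mem_sup (e ⟨g, hg⟩).2 hs
  set m := d⁻¹ * (β ⟨d, hdmem⟩ : Ω) with hm
  have hmM : m ∈ U ⊓ W := by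
    refine ⟨?_, W.mul_mem (W.inv_mem hdW) ?_⟩
    · have e1 : (⟨d, hdmem⟩ : cenSup S Q') = Subgroup.inclusion le_sup_left (e ⟨g, hg⟩) *
          Subgroup.inclusion le_sup_right ⟨_, hs⟩ := Subtype.ext (by
        show d = g' * (g'⁻¹ * d); group)
      have h1 := hβ.2.2 (Subgroup.inclusion le_sup_right ⟨_, hs⟩) hs
      set b₂ := (β (Subgroup.inclusion le_sup_right ⟨_, hs⟩) : Ω)
      have h2 : (β ⟨d, hdmem⟩ : Ω) = (α' (e ⟨g, hg⟩) : Ω) * b₂ := by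
        rw [e1, map_mul, Subgroup.coe_mul, hag]
      have h3 : m = ((g'⁻¹ * d)⁻¹ * (g'⁻¹ * (α' (e ⟨g, hg⟩) : Ω)) * (g'⁻¹ * d)) *
          ((g'⁻¹ * d)⁻¹ * b₂) := by
        rw [hm, h2]; group
      rw [h3]
      refine U.mul_mem ?_ h1
      have h4 : g'⁻¹ * (α' (e ⟨g, hg⟩) : Ω) ∈ U :=
        U.mul_mem (U.inv_mem (hQ'U (e ⟨g, hg⟩).2)) (hQ'U (α' _).2)
      have h5 := c.hG.1.2.2.2.1.2 U le_rfl _ (F.conj_mem c.hUS (S.inv_mem hs.1)) ⟨_, h4⟩
      rw [conjHom_apply, inv_inv] at h5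
      exact h5
    · exact stronglyClosed_map c.hW (autGroup_hom_mem (cenSup_le hQ'S) hβ.1) ⟨d, hdmem⟩ hdW
  have hac : α * a = a * α := by
    refine MulEquiv.ext fun y => e.injective (Subtype.ext ?_)
    show (e (α (a y)) : Ω) = (e (a (α y)) : Ω)
    set b := (β ⟨d, hdmem⟩ : Ω) with hbdef
    have h1 : (e (α (a y)) : Ω) = b * (e (α y) : Ω) * b⁻¹ := by
      have hz : ∀ z : Q, (e (α z) : Ω) = (β (Subgroup.inclusion le_sup_left (e z)) : Ω) :=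
        fun z => by rw [hag, hecongr]
      rw [hz, hz, hbdef, ← InvMemClass.coe_inv, ← map_inv, ← Subgroup.coe_mul, ← Subgroup.coe_mul,
        ← map_mul, ← map_mul]
      exact congrArg (fun z : cenSup S Q' => (β z : Ω)) (Subtype.ext (hdx y).symm)
    have h2 : (e (α y) : Ω) * m = m * (e (α y) : Ω) :=
      c.hM Q (Q'.subtype.comp e.toMonoidHom) hem hQV (α y) m hmM
    rw [h1, show b = d * m by rw [hm, mul_inv_cancel_left], ← hdx (α y)]
    calc d * m * (e (α y) : Ω) * (d * m)⁻¹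
        = d * (m * (e (α y) : Ω)) * m⁻¹ * d⁻¹ := by group
      _ = d * ((e (α y) : Ω) * m) * m⁻¹ * d⁻¹ := by rw [h2]
      _ = d * (e (α y) : Ω) * d⁻¹ := by group
  have hagen : ∀ i : ℕ, α ^ i * g₀ * (α ^ i)⁻¹ = a ^ i * g₀ := by
    intro i
    induction i with
    | zero => simp
    | succ i ih =>
      have hc1 : α * a ^ i = a ^ i * α := Commute.pow_right hac i
      calc α ^ (i + 1) * g₀ * (α ^ (i + 1))⁻¹ = α * (α ^ i * g₀ * (α ^ i)⁻¹) * α⁻¹ := by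
            rw [pow_succ']; group
        _ = α * a ^ i * g₀ * α⁻¹ := by rw [ih]; group
        _ = a ^ i * (α * g₀ * α⁻¹) := by rw [hc1]; group
        _ = a ^ (i + 1) * g₀ := by rw [pow_succ, ha]; group
  have h0 := hagen (orderOf α)
  rw [pow_orderOf_eq_one, one_mul, inv_one, mul_one, right_eq_mul] at h0
  obtain ⟨i, hi⟩ := hAp ⟨a, haA⟩
  have ha1 : a = 1 := orderOf_eq_one_iff.1 (Nat.eq_one_of_dvd_coprimes (Nat.Coprime.pow_right i hco)
    (orderOf_dvd_of_pow_eq_one h0) (orderOf_dvd_of_pow_eq_one (congrArg Subtype.val hi)))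
  have hαg : α * g₀ = g₀ * α := by
    rw [ha, mul_inv_eq_one, mul_inv_eq_iff_eq_mul] at ha1
    exact ha1
  refine ⟨V.mul_mem (V.inv_mem (hQV x.2)) (hQV (α x).2), Subgroup.mem_centralizer_iff.2 ?_⟩
  intro u hu
  rw [Set.mem_singleton_iff.1 hu]
  obtain ⟨z, hz, hzx⟩ : ∃ z ∈ V ⊓ W, w * (x : Ω) * w⁻¹ = x * z :=
    ⟨_, hcomm x (hQV x.2), by group⟩
  have h1 : w * (α x : Ω) * w⁻¹ = (α x : Ω) * z := by
    have e1 : (g₀ (α x) : Ω) = (α (g₀ x) : Ω) := by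
      rw [← MulAut.mul_apply, ← hαg]; rfl
    rw [hg₀x, conjHom_apply] at e1
    rw [e1, show g₀ x = x * ⟨z, hZQ hz⟩ from Subtype.ext (by
      rw [hg₀x, conjHom_apply, hzx]; rfl), map_mul, hfixW α hα ⟨z, hZQ hz⟩ hz.2]
    rfl
  refine mul_inv_eq_iff_eq_mul.1 ?_
  calc w * ((x : Ω)⁻¹ * (α x : Ω)) * w⁻¹
      = (w * (x : Ω) * w⁻¹)⁻¹ * (w * (α x : Ω) * w⁻¹) := by group
    _ = z⁻¹ * ((x : Ω)⁻¹ * (α x : Ω) * z) := by rw [hzx, h1]; group
    _ = z⁻¹ * (z * ((x : Ω)⁻¹ * (α x : Ω))) := by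
      rw [c.central (V.mul_mem (V.inv_mem (hQV x.2)) (hQV (α x).2)) hz]
    _ = (x : Ω)⁻¹ * (α x : Ω) := by group

/-- A coprime automorphism moving `V` inside cosets of `W` fixes `V`. -/
theorem Setting.fixed_of_coprime [Fact p.Prime] [Finite S] (c : Setting F G C W p)
    {R : Subgroup Ω} (hRS : R ≤ S) {β : MulAut R} (hβ : β ∈ F.autGroup R) (hVR : V ≤ R)
    (hco : (orderOf β).Coprime p)
    (hd : ∀ x : R, (x : Ω) ∈ V → (x : Ω)⁻¹ * (β x : Ω) ∈ W) (x : R) (hx : (x : Ω) ∈ V) :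
    (β x : Ω) = x := by
  classical
  have hVS := c.hVU.trans c.hUS
  haveI : Finite V := finite_of_le hVS
  have hVp : IsPGroup p V := c.hS.to_le hVS
  obtain ⟨hγV, hγC⟩ := c.preserved (restrict_mem (autGroup_hom_mem hRS hβ) hVR)
    fun y => hd (Subgroup.inclusion hVR y) y.2
  have hβV : ∀ y : V, (β (Subgroup.inclusion hVR y) : Ω) ∈ V := hγV
  have hcomm : ∀ y : V, (y : Ω)⁻¹ * (β (Subgroup.inclusion hVR y) : Ω) ∈ V ⊓ W := fun y =>
    ⟨V.mul_mem (V.inv_mem y.2) (hβV y), hd (Subgroup.inclusion hVR y) y.2⟩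
  -- the fixed points in `V`
  set f := (autHom β).comp (Subgroup.inclusion hVR) with hf
  let X : Subgroup Ω := (MonoidHom.eqLocus f V.subtype).map V.subtype
  have hXmem : ∀ y : V, f y = y → (y : Ω) ∈ X := fun y hy => ⟨y, hy, rfl⟩
  suffices hle : V ≤ X by
    obtain ⟨y, hy, hyx⟩ := hle hx
    rw [show x = Subgroup.inclusion hVR y from Subtype.ext hyx.symm]
    exact hy
  have hXcomm : ∀ a ∈ V, ∀ b ∈ V, a * b * a⁻¹ * b⁻¹ ∈ X := by
    intro a ha b hb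
    refine hXmem (⟨a, ha⟩ * ⟨b, hb⟩ * ⟨a, ha⟩⁻¹ * ⟨b, hb⟩⁻¹) ?_
    obtain ⟨z, hz, hza⟩ : ∃ z ∈ V ⊓ W, f ⟨a, ha⟩ = a * z :=
      ⟨_, hcomm ⟨a, ha⟩, (mul_inv_cancel_left _ _).symm⟩
    obtain ⟨z', hz', hzb⟩ : ∃ z' ∈ V ⊓ W, f ⟨b, hb⟩ = b * z' :=
      ⟨_, hcomm ⟨b, hb⟩, (mul_inv_cancel_left _ _).symm⟩
    simp only [map_mul, map_inv, hza, hzb, Subgroup.coe_mul, InvMemClass.coe_inv]
    calc a * z * (b * z') * (a * z)⁻¹ * (b * z')⁻¹
        = a * (z * b) * z' * z⁻¹ * a⁻¹ * z'⁻¹ * b⁻¹ := by group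
      _ = a * (b * z) * z' * z⁻¹ * a⁻¹ * z'⁻¹ * b⁻¹ := by rw [c.central hb hz]
      _ = a * b * (z * z') * z⁻¹ * a⁻¹ * z'⁻¹ * b⁻¹ := by group
      _ = a * b * (z' * z) * z⁻¹ * a⁻¹ * z'⁻¹ * b⁻¹ := by rw [c.central hz.1 hz']
      _ = a * b * (z' * a⁻¹) * z'⁻¹ * b⁻¹ := by group
      _ = a * b * (a⁻¹ * z') * z'⁻¹ * b⁻¹ := by rw [c.central (V.inv_mem ha) hz']
      _ = a * b * a⁻¹ * b⁻¹ := by group
  refine le_of_displacements hVp c.hCG.2 X hXcomm fun Q hQc hQn hrad α hα _ y => ?_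
  have hQV : Q ≤ V := hQc.1
  have hQS : Q ≤ S := hQV.trans hVS
  haveI : Finite Q := finite_of_le hQS
  haveI := finite_mulAut (S := S) hQS
  have hZQ : V ⊓ W ≤ Q := fun z hz => centralizerIn_le_of_isCentric hQc
    ⟨hz.1, Subgroup.mem_centralizer_iff.2 fun u hu => c.central (hQV hu) hz⟩
  have hγQ : ∀ u : Q, f ⟨u, hQV u.2⟩ ∈ Q := fun u => by
    rw [← mul_inv_cancel_left (u : Ω) (f ⟨u, hQV u.2⟩)]
    exact Q.mul_mem u.2 (hZQ (hcomm ⟨u, hQV u.2⟩))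
  obtain ⟨γ, hγF, hγx⟩ := exists_aut_of_hom
    (restrict_mem (restrict_mem (autGroup_hom_mem hRS hβ) hVR) hQV) hγQ
  have hγpow : ∀ (n : ℕ) (u : Q), ((γ ^ n) u : Ω) = ((β ^ n) ⟨u, hVR (hQV u.2)⟩ : Ω) := by
    intro n
    induction n with
    | zero => intro u; rfl
    | succ n ih =>
      intro u
      rw [pow_succ', pow_succ', MulAut.mul_apply, MulAut.mul_apply, hγx]
      exact congrArg (fun z : R => (β z : Ω)) (Subtype.ext (ih u))
  have hγn : γ ^ orderOf β = 1 := MulEquiv.ext fun u => Subtype.ext (by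
    rw [hγpow, pow_orderOf_eq_one]; rfl)
  have hγC' : ∀ g ∈ C.autGroup Q, γ * g * γ⁻¹ ∈ C.autGroup Q := by
    intro g hg
    obtain ⟨χ, hχ, hχx⟩ := hγC Q (autHom g) (autGroup_hom_mem hQV hg)
    refine (mem_autGroup hQV).2 (mem_of_restrict hχ (fun u hu => ?_) fun u => ?_)
    · obtain ⟨z, hz⟩ := γ.surjective ⟨u, hu⟩
      rw [show u = (γ z : Ω) from congrArg Subtype.val hz.symm, hγx]
      exact mem_imgSub.2 ⟨⟨z, hQV z.2⟩, z.2, rfl⟩
    · obtain ⟨z, rfl⟩ := γ.surjective u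
      have hm : f ⟨z, hQV z.2⟩ ∈ imgSub f Q := apply_mem_imgSub f ⟨(z : Ω), hQV z.2⟩ z.2
      refine Eq.trans ?_ ((hχx z (hQV z.2) (hQV (g z).2) hm).symm.trans
        (congrArg χ (Subtype.ext (hγx z).symm)))
      show ((γ * g * γ⁻¹) (γ z) : Ω) = _
      rw [MulAut.mul_apply, MulAut.mul_apply, MulAut.inv_apply_self, hγx]
      rfl
  have hfixW : ∀ g ∈ C.autGroup Q, ∀ z : Q, (z : Ω) ∈ W → g z = z := fun g hg z hz =>
    Subtype.ext (QuotientNormal.apply_eq_of_central (FusionFactor.isCentral_center C)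
      (autGroup_hom_mem hQV hg) z (c.hZ ⟨hQV z.2, hz⟩))
  -- automorphisms trivial modulo `W`
  have hdQ : ∀ u : Q, (u : Ω)⁻¹ * (γ u : Ω) ∈ V ⊓ W := fun u => by
    rw [hγx]; exact hcomm ⟨u, hQV u.2⟩
  let A : Subgroup (MulAut Q) :=
    { carrier := {g | g ∈ C.autGroup Q ∧ ∀ u : Q, (u : Ω)⁻¹ * (g u : Ω) ∈ W}
      one_mem' := ⟨one_mem _, fun u => by simp⟩
      mul_mem' := fun {g h} hg hh => ⟨mul_mem hg.1 hh.1, fun u => by
        have := W.mul_mem (hh.2 u) (hg.2 (h u))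
        rwa [mul_assoc, mul_inv_cancel_left] at this⟩
      inv_mem' := fun {g} hg => ⟨inv_mem hg.1, fun u => by
        have := W.inv_mem (hg.2 (g⁻¹ u))
        rwa [MulAut.apply_inv_self, mul_inv_rev, inv_inv] at this⟩ }
  have hAp : IsPGroup p A := by
    rintro ⟨g, hg⟩
    obtain ⟨k, hk⟩ := pow_eq_one_of_disp (p := p) c.hS hQS hg.2 fun z hz => hfixW g hg.1 z hz
    exact ⟨k, Subtype.ext hk⟩
  have hAn : ∀ g ∈ C.autGroup Q, ∀ n ∈ A, g * n * g⁻¹ ∈ A := by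
    intro g hg n hn
    refine ⟨mul_mem (mul_mem hg hn.1) (inv_mem hg), fun u => ?_⟩
    obtain ⟨u, rfl⟩ := g.surjective u
    rw [MulAut.mul_apply, MulAut.mul_apply, MulAut.inv_apply_self]
    have e : (g u)⁻¹ * g (n u) = u⁻¹ * n u := by
      rw [← map_inv, ← map_mul]
      exact hfixW g hg _ (hn.2 u)
    have := congrArg Subtype.val e
    rw [Subgroup.coe_mul, Subgroup.coe_inv] at this
    rw [this]
    exact hn.2 u
  have hAc : ∀ g ∈ A, ∀ h ∈ A, g * h = h * g := by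
    intro g hg h hh
    refine MulEquiv.ext fun u => ?_
    obtain ⟨dg, hdg, hgu⟩ : ∃ d : Q, (d : Ω) ∈ W ∧ g u = u * d :=
      ⟨u⁻¹ * g u, hg.2 u, (mul_inv_cancel_left _ _).symm⟩
    obtain ⟨dh, hdh, hhu⟩ : ∃ d : Q, (d : Ω) ∈ W ∧ h u = u * d :=
      ⟨u⁻¹ * h u, hh.2 u, (mul_inv_cancel_left _ _).symm⟩
    rw [MulAut.mul_apply, MulAut.mul_apply, hhu, map_mul, hgu, map_mul, hhu, hfixW g hg.1 _ hdh,
      hfixW h hh.1 _ hdg, mul_assoc, mul_assoc]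
    exact congrArg (u * ·) (Subtype.ext (c.central (hQV dg.2) ⟨hQV dh.2, hdh⟩))
  have hγpW : ∀ (i : ℕ) (u : Q), (u : Ω)⁻¹ * ((γ ^ i) u : Ω) ∈ W := by
    intro i
    induction i with
    | zero => intro u; simp
    | succ i ih =>
      intro u
      have := W.mul_mem (ih u) (hdQ ((γ ^ i) u)).2
      rw [mul_assoc, mul_inv_cancel_left] at this
      rwa [pow_succ', MulAut.mul_apply]
  have hγA : ∀ g ∈ A, γ * g * γ⁻¹ ∈ A := by
    intro g hg
    refine ⟨hγC' g hg.1, fun u => ?_⟩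
    obtain ⟨u, rfl⟩ := γ.surjective u
    rw [MulAut.mul_apply, MulAut.mul_apply, MulAut.inv_apply_self]
    have h1 := W.mul_mem (W.mul_mem (W.inv_mem (hdQ u).2) (hg.2 u)) (hdQ (g u)).2
    rw [show (γ u : Ω)⁻¹ * (γ (g u) : Ω) = ((u : Ω)⁻¹ * (γ u : Ω))⁻¹ *
      ((u : Ω)⁻¹ * (g u : Ω)) * ((g u : Ω)⁻¹ * (γ (g u) : Ω)) by group]
    exact h1
  have hfA : ∀ i : ℕ, α⁻¹ * γ ^ i * α * (γ ^ i)⁻¹ ∈ A := by
    intro i
    have hmemC : α⁻¹ * γ ^ i * α * (γ ^ i)⁻¹ ∈ C.autGroup Q := by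
      rw [show α⁻¹ * γ ^ i * α * (γ ^ i)⁻¹ = α⁻¹ * (γ ^ i * α * (γ ^ i)⁻¹) by group]
      refine Subgroup.mul_mem _ (Subgroup.inv_mem _ hα) ?_
      clear y
      induction i with
      | zero => simpa using hα
      | succ i ih =>
        rw [show γ ^ (i + 1) * α * (γ ^ (i + 1))⁻¹ = γ * (γ ^ i * α * (γ ^ i)⁻¹) * γ⁻¹ by
          rw [pow_succ']; group]
        exact hγC' _ ih
    refine ⟨hmemC, fun u => ?_⟩
    obtain ⟨u, rfl⟩ := (γ ^ i).surjective u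
    rw [MulAut.mul_apply, MulAut.mul_apply, MulAut.mul_apply, MulAut.inv_apply_self]
    -- `(γ^i u)⁻¹ α⁻¹ (γ^i (α u))`
    obtain ⟨z, hz, hzu⟩ : ∃ z : Q, (z : Ω) ∈ W ∧ (γ ^ i) (α u) = α u * z :=
      ⟨(α u)⁻¹ * (γ ^ i) (α u), hγpW i (α u), (mul_inv_cancel_left _ _).symm⟩
    rw [hzu, map_mul, MulAut.inv_apply_self, hfixW _ (Subgroup.inv_mem _ hα) z hz]
    have h1 := W.mul_mem (W.inv_mem (hγpW i u)) hz
    rw [mul_inv_rev, inv_inv, mul_assoc] at h1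
    rw [Subgroup.coe_mul]
    exact h1
  have hcoA : ∀ g ∈ A, (orderOf β).Coprime (orderOf g) := fun g hg => by
    obtain ⟨k, hk⟩ := hAp ⟨g, hg⟩
    exact Nat.Coprime.coprime_dvd_right (orderOf_dvd_of_pow_eq_one (congrArg Subtype.val hk))
      (hco.pow_right k)
  obtain ⟨b, hb, hbc⟩ := exists_commute_correction α γ hγn A hfA hAc hγA hcoA
  -- `α = φ b⁻¹` with `φ` commuting with `γ`
  set φ := α * b with hφ
  have hφC : φ ∈ C.autGroup Q := Subgroup.mul_mem _ hα hb.1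
  have hφγ : γ * φ = φ * γ := mul_inv_eq_iff_eq_mul.1 hbc
  have hfixed : ∀ u : Q, ((u⁻¹ * φ u : Q) : Ω) ∈ X := by
    intro u
    refine hXmem ⟨_, hQV (u⁻¹ * φ u).2⟩ ((hγx _).symm.trans ((congrArg Subtype.val (?_ :
      γ (u⁻¹ * φ u) = u⁻¹ * φ u)).trans rfl))
    obtain ⟨z, hz, hzu⟩ : ∃ z : Q, (z : Ω) ∈ V ⊓ W ∧ γ u = u * z :=
      ⟨u⁻¹ * γ u, hdQ u, (mul_inv_cancel_left _ _).symm⟩
    have h1 : γ (φ u) = φ u * z := by
      rw [← MulAut.mul_apply, hφγ, MulAut.mul_apply, hzu, map_mul, hfixW φ hφC z hz.2]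
    rw [map_mul, map_inv, hzu, h1, mul_inv_rev]
    refine Subtype.ext ?_
    simp only [Subgroup.coe_mul, InvMemClass.coe_inv]
    calc (z : Ω)⁻¹ * (u : Ω)⁻¹ * ((φ u : Ω) * z)
        = (z : Ω)⁻¹ * ((u : Ω)⁻¹ * (φ u : Ω) * z) := by group
      _ = (z : Ω)⁻¹ * ((z : Ω) * ((u : Ω)⁻¹ * (φ u : Ω))) := by
        rw [c.central (V.mul_mem (V.inv_mem (hQV u.2)) (hQV (φ u).2)) hz]
      _ = _ := by group
  obtain ⟨g, hg, hgx⟩ : ∃ g ∈ Q, ∀ u : Q, (b⁻¹ u : Ω) = g * u * g⁻¹ := by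
    have := hrad A (fun n hn => hn.1) hAp hAn (A.inv_mem hb)
    rw [inn_eq_autInducedBy] at this
    exact mem_autInducedBy.1 this
  set t := b⁻¹ y with ht
  have hαy : α y = φ t := by
    rw [hφ, ht, MulAut.mul_apply, MulAut.apply_inv_self]
  rw [hαy, show (y : Ω)⁻¹ * (φ t : Ω) = ((y : Ω)⁻¹ * (t : Ω)) * ((t⁻¹ * φ t : Q) : Ω) by
    simp only [Subgroup.coe_mul, InvMemClass.coe_inv]; group]
  refine X.mul_mem ?_ (hfixed t)
  rw [ht, hgx, show (y : Ω)⁻¹ * (g * y * g⁻¹) = (y : Ω)⁻¹ * g * (y : Ω)⁻¹⁻¹ * g⁻¹ by group]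
  exact hXcomm _ (V.inv_mem (hQV y.2)) _ (hQV hg)

end Cfsg.Agent.Lib.Fusion.Component
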