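/-
A component lies in a normal subsystem or centralizes it; two components are equal or commute.
-/
import Cfsg.Agent.Lib.Fusion.Component.Commute

set_option autoImplicit false

namespace Cfsg.Agent.Lib.Fusion.Component

open Cfsg Cfsg.FusionSystem

universe u

variable {Ω : Type u} [Group Ω] {S : Subgroup Ω} {p : ℕ}

/-- The two dichotomies for the components of `F`. -/
def Dichotomies (F : FusionSystem S) (p : ℕ) : Prop :=
  (∀ (V : Subgroup Ω) (C : FusionSystem V) (W : Subgroup Ω) (N : FusionSystem W) (hWS : W ≤ S),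
      C.IsComponentIn F p → N.IsNormalIn F p → ¬ V ≤ W → V ≤ centFix F N p hWS) ∧
    ∀ (V : Subgroup Ω) (C : FusionSystem V) (V' : Subgroup Ω) (C' : FusionSystem V'),
      C.IsComponentIn F p → C'.IsComponentIn F p →
        SameSys C C' ∨ ∀ a ∈ V, ∀ b ∈ V', a * b = b * a

theorem setting_of_dichotomies [Fact p.Prime] [Finite S] (hS : IsPGroup p S) {F : FusionSystem S}
    {U W V : Subgroup Ω} {G : FusionSystem U} {N : FusionSystem W} (hG : G.IsNormalIn F p)
    (hN : N.IsNormalIn F p) (hGd : Dichotomies G p) {C : FusionSystem V}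
    (hC : C.IsComponentIn G p) (h : ¬ V ≤ W) : Setting F G C W p := by
  have hUS : U ≤ S := hG.1.2.2.2.1.1
  haveI : Finite U := finite_of_le hUS
  have hW : F.StronglyClosed W := hN.1.2.2.2.1
  obtain ⟨M, hM, -⟩ := exists_meet hS hG hN
  have hVM : ¬ V ≤ U ⊓ W := fun h' => h (h'.trans inf_le_right)
  have hVY := hGd.1 V C _ M inf_le_left hC hM hVM
  obtain ⟨D, hD, -⟩ := exists_centralizerSubsystem (hS.to_le hUS) hM inf_le_left
  have hYc := hD.1.2.2.2.1
  have hUc := hG.1.2.2.2.1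
  refine ⟨hS, hG, hC, hW,
    inf_le_center hS ⟨IsSubnormalIn.step hC.1 hG, hC.2⟩ hN h, fun Q φ hφ hQV x m hm => ?_,
    fun V' C' hC' => hGd.2 V C V' C' hC hC'⟩
  have hQY := hQV.trans hVY
  obtain ⟨a, ha, φ₀, hφ₀, hφx⟩ := hG.1.2.2.2.2.2 Q (hQV.trans (Components.le_of_subnormal hC.1)) φ hφ
  have h0 : φ₀ x ∈ centFix G M p inf_le_left := hYc.2 Q hQY φ₀ hφ₀ x
  set m₀ := a⁻¹ ⟨m, hm.1⟩ with hm₀
  have hm₀W : (m₀ : Ω) ∈ W :=
    hW.2 _ inf_le_right _ (restrict_mem (autGroup_hom_mem hUS (Subgroup.inv_mem _ ha))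
      (inf_le_left : U ⊓ W ≤ U)) ⟨m, hm⟩
  have hcomm : φ₀ x * (m₀ : Ω) = (m₀ : Ω) * φ₀ x :=
    ((Subgroup.mem_centralizer_iff.1 (centFix_le_centralizerIn h0).2) _ ⟨m₀.2, hm₀W⟩).symm
  have hx0 : φ₀ x ∈ U := val_mem hφ₀ x
  rw [hφx x hx0, show m = ((a m₀ : U) : Ω) by rw [hm₀, MulAut.apply_inv_self],
    ← Subgroup.coe_mul, ← Subgroup.coe_mul, ← map_mul, ← map_mul]
  exact congrArg (fun z : U => (a z : Ω)) (Subtype.ext hcomm)

theorem dichotomies_aux [Fact p.Prime] (n : ℕ ×ₗ ℕ) : ∀ (S : Subgroup Ω) (F : FusionSystem S),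
    systemSize F = n → Finite S → IsPGroup p S → Dichotomies F p := by
  induction n using WellFoundedLT.induction with
  | _ n ih =>
  intro S F hn hfin hS
  have hA : ∀ (V : Subgroup Ω) (C : FusionSystem V) (W : Subgroup Ω) (N : FusionSystem W)
      (hWS : W ≤ S), C.IsComponentIn F p → N.IsNormalIn F p → ¬ V ≤ W →
        V ≤ centFix F N p hWS := by
    intro V C W N hWS hC hN h
    by_cases hsame : SameSys C F
    · obtain ⟨rfl, hh⟩ := hsame
      obtain rfl : C = F := eq_of_hom hh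
      exact le_centFix_self hS hC.2 hN (fun e => h e.ge) hWS
    obtain ⟨U, G, hG, hCG, hlt⟩ := exists_proper_normal hC.1 Fact.out hS hfin hC.2 hsame
    have hUS : U ≤ S := hG.1.2.2.2.1.1
    have hGd := ih _ (hn ▸ hlt) U G rfl (finite_of_le hUS) (hS.to_le hUS)
    have c := setting_of_dichotomies hS hG hN hGd hCG h
    have hVS : V ≤ S := Components.le_of_subnormal hC.1
    have hVCS : V ≤ centralizerIn S W := fun v hv => ⟨hVS hv,
      Subgroup.mem_centralizer_iff.2 fun w hw => (c.commute hv hw).symm⟩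
    haveI : Finite V := finite_of_le hVS
    intro x hx
    refine ⟨hVCS hx, fun a ha hai P hP hPW hPc hPn β hβ hco hα hmem => ?_⟩
    -- the image of the component
    have hVW : V ≤ cenSup S W := hVCS.trans le_sup_right
    have hγ := restrict_mem (autGroup_hom_mem (cenSup_le hWS) ha) hVW
    set γ := (autHom a).comp (Subgroup.inclusion hVW) with hγdef
    have hsc : C.StronglyClosed ⊥ := ⟨bot_le, fun R hR φ hφ y => by
      rw [show y = 1 from Subtype.ext (Subgroup.mem_bot.1 (hR y.2)), map_one]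
      exact one_mem _⟩
    obtain ⟨C', hC'⟩ := FusionFactor.exists_factorSystem γ C hsc (S' := γ.range)
      (fun s => by
        rw [Subgroup.mem_bot, ← OneMemClass.coe_one V, Subtype.coe_inj]
        exact map_eq_one_iff γ (F.injective_of_mem hγ)) rfl
    have hC'F := Cfsg.Agent.S5154.result p hS F hG.1.2.1 C hC γ hγ C' hC'
    have hrU : γ.range ≤ U := by
      rintro _ ⟨y, rfl⟩
      exact hG.1.2.2.2.1.2 V c.hVU γ hγ y
    have hnot : ¬ γ.range ≤ W := fun h' => h fun y hy =>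
      (hai ⟨y, hVW hy⟩).1 (h' ⟨⟨y, hy⟩, rfl⟩)
    have c' := setting_of_dichotomies hS hG hN hGd (isComponentIn_of_le hS hC'F hG hrU) hnot
    have hVR : γ.range ≤ cenSup S P := by
      rintro _ ⟨y, rfl⟩
      refine Subgroup.mem_sup_right (centralizerIn_anti hPW ⟨val_mem hγ y,
        Subgroup.mem_centralizer_iff.2 fun w hw => (c'.commute ⟨y, rfl⟩ hw).symm⟩)
    exact c'.fixed_of_coprime (cenSup_le hP) hβ.1 hVR hco
      (fun y hy => hPW (hβ.2.2 y (centralizerIn_anti hPW ⟨cenSup_le hP y.2,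
        Subgroup.mem_centralizer_iff.2 fun w hw => (c'.commute hy hw).symm⟩)))
      ⟨_, hmem⟩ ⟨⟨x, hx⟩, rfl⟩
  refine ⟨hA, fun V C V' C' hC hC' => ?_⟩
  have hVS : V ≤ S := Components.le_of_subnormal hC.1
  have hV'S : V' ≤ S := Components.le_of_subnormal hC'.1
  by_cases hsame : SameSys C F
  · left
    obtain ⟨rfl, hh⟩ := hsame
    obtain rfl : C = F := eq_of_hom hh
    obtain ⟨e, he⟩ := sameSys_of_quasisimple hC'.1 Fact.out hS hfin hC'.2 hC.2
    exact ⟨e.symm, fun P => (he P).symm⟩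
  obtain ⟨U, G, hG, hCG, hlt⟩ := exists_proper_normal hC.1 Fact.out hS hfin hC.2 hsame
  have hUS : U ≤ S := hG.1.2.2.2.1.1
  by_cases hV' : V' ≤ U
  · exact (ih _ (hn ▸ hlt) U G rfl (finite_of_le hUS) (hS.to_le hUS)).2 V C V' C' hCG
      (isComponentIn_of_le hS hC' hG hV')
  · refine Or.inr fun a ha b hb => ?_
    exact Subgroup.mem_centralizer_iff.1
      (centFix_le_centralizerIn (hA V' C' U G hUS hC' hG hV' hb)).2 a
      (Components.le_of_subnormal hCG.1 ha)

theorem dichotomies [Fact p.Prime] [Finite S] (hS : IsPGroup p S) (F : FusionSystem S) :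
    Dichotomies F p :=
  dichotomies_aux _ S F rfl inferInstance hS

/-- A component not inside a normal subsystem centralizes it. -/
theorem le_centFix_of_component [Fact p.Prime] [Finite S] (hS : IsPGroup p S) {F : FusionSystem S}
    {V W : Subgroup Ω} {C : FusionSystem V} {N : FusionSystem W} (hWS : W ≤ S)
    (hC : C.IsComponentIn F p) (hN : N.IsNormalIn F p) (h : ¬ V ≤ W) :
    V ≤ centFix F N p hWS :=
  (dichotomies hS F).1 V C W N hWS hC hN h

/-- Two components are equal or commute. -/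
theorem sameSys_or_commute [Fact p.Prime] [Finite S] (hS : IsPGroup p S) {F : FusionSystem S}
    {V V' : Subgroup Ω} {C : FusionSystem V} {C' : FusionSystem V'}
    (hC : C.IsComponentIn F p) (hC' : C'.IsComponentIn F p) :
    SameSys C C' ∨ ∀ a ∈ V, ∀ b ∈ V', a * b = b * a :=
  (dichotomies hS F).2 V C V' C' hC hC'

end Cfsg.Agent.Lib.Fusion.Component
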