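/-
The layer of a normal subsystem is normal.
-/
import Cfsg.Agent.Lib.Fusion.LayerExists
import Cfsg.Agent.Lib.Fusion.Component.Basic
import Cfsg.Agent.Lib.Fusion.NormalProduct.Normal
import Cfsg.Agent.S5311

set_option autoImplicit false

namespace Cfsg.Agent.Lib.Fusion.Component

open Cfsg Cfsg.FusionSystem

universe u

variable {Ω : Type u} [Group Ω] {S U T : Subgroup Ω} {F : FusionSystem S} {G : FusionSystem U}
  {L : FusionSystem T} {p : ℕ}

theorem centralizes_anti {E : FusionSystem T} {Y T' : Subgroup Ω}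
    (h : NormalProduct.Centralizes F E Y) (hle : T' ≤ Y) :
    NormalProduct.Centralizes F E T' := by
  intro P φ hφ
  obtain ⟨h1, h2, h3, ψ, hψ, hψP, hψY⟩ := h P hφ
  exact ⟨h1, h2.trans (centralizerIn_anti hle), fun x => centralizerIn_anti hle (h3 x), _,
    restrict_mem hψ (sup_le_sup_left hle P), fun x => hψP x,
    fun x => hψY (Subgroup.inclusion hle x)⟩

/-- Automorphisms of the group of an invariant subsystem act as morphisms of it. -/
theorem isMorphism_of_invariant (hG : G.IsInvariantIn F) {α : MulAut U} (hα : α ∈ F.autGroup U) :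
    G.IsMorphism G (U.subtype.comp α.toMonoidHom) := by
  refine ⟨fun s => (α s).2, fun P φ hφ => ?_⟩
  obtain ⟨χ, hχ, hx⟩ := hG.2.2.1 P (src_le hφ) φ hφ α hα
  exact ⟨χ, hχ, src_le hφ, val_mem hφ, fun x => ⟨⟨x, src_le hφ x.2⟩, x.2, rfl⟩,
    fun x => hx x (val_mem hφ x) _⟩

/-- The layer of a normal subsystem is normal. -/
theorem isNormalIn_layer [Fact p.Prime] [Finite S] (hS : IsPGroup p S) (hG : G.IsNormalIn F p)
    (hL : L.IsLayerOf G p) : L.IsNormalIn F p := by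
  have hUS : U ≤ S := hG.1.2.2.2.1.1
  haveI : Finite U := finite_of_le hUS
  have hUp : IsPGroup p U := hS.to_le hUS
  have hGs : G.IsSaturated p := hG.1.1
  have hF : F.IsSaturated p := hG.1.2.1
  have hTU : T ≤ U := hL.1.1.2.2.2.1.1
  haveI : Finite T := finite_of_le (hTU.trans hUS)
  have hTG : G.StronglyClosed T := hL.1.1.2.2.2.1
  have hα : ∀ α ∈ F.autGroup U,
      imageAlong (U.subtype.comp α.toMonoidHom) T = T ∧
        ∀ (P : Subgroup Ω) (φ : P →* Ω), φ ∈ L.Hom P →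
          ∀ φ' : imageAlong (U.subtype.comp α.toMonoidHom) P →* Ω,
            InducedAlong (U.subtype.comp α.toMonoidHom) φ φ' →
              φ' ∈ L.Hom (imageAlong (U.subtype.comp α.toMonoidHom) P) := fun α hα =>
    S5311.result p hUp G hGs α (isMorphism_of_invariant hG.1.2.2 hα)
      (isMorphism_of_invariant hG.1.2.2 (Subgroup.inv_mem _ hα)) L hL
  have hαT : ∀ α ∈ F.autGroup U, ∀ t : U, (t : Ω) ∈ T → (α t : Ω) ∈ T := fun α ha t ht =>
    (hα α ha).1.le ⟨t, ht, rfl⟩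
  have hTc : F.StronglyClosed T := by
    refine ⟨hTU.trans hUS, fun R hR φ hφ x => ?_⟩
    obtain ⟨a, ha, φ₀, hφ₀, hx⟩ := hG.1.2.2.2.2.2 R (hR.trans hTU) φ hφ
    rw [hx x (val_mem hφ₀ x)]
    exact hαT a ha _ (hTG.2 R hR φ₀ hφ₀ x)
  have hLF : L.IsSubsystemOf F := fun P φ hφ => hG.1.2.2.1 P (hL.1.1.2.2.1 P hφ)
  have hLG := stronglyInvariant_of_isWeaklyNormalIn hUp hL.1.1
  have hw : L.IsWeaklyNormalIn F p := by
    refine ⟨hL.1.1.1, hF, (S5119.result p hS F hF L hLF hTc).2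
      fun P Q hPQ hQT φ hφ hφQ ψ hψ => ?_⟩
    obtain ⟨a, ha, ψ₀, hψ₀, hψx⟩ := hG.1.2.2.2.2.2 Q (hQT.trans hTU) ψ hψ
    obtain ⟨χ₀, hχ₀, hχ₀x⟩ := hLG P Q hPQ hQT φ hφ hφQ ψ₀ hψ₀
    have hm := isMorphism_of_invariant hG.1.2.2 ha
    obtain ⟨χ, -, hind⟩ := hm.2 _ χ₀ (hL.1.1.2.2.1 _ hχ₀)
    have hχL := (hα a ha).2 _ χ₀ hχ₀ χ hind
    obtain ⟨hP₀, hχv, hmem, hχind⟩ := hind
    have hle : (P.subgroupOf Q).map ψ ≤
        imageAlong (U.subtype.comp a.toMonoidHom) (imgSub ψ₀ P) := by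
      intro y hy
      obtain ⟨q, hq, rfl⟩ := mem_imgSub.1 hy
      rw [hψx q (val_mem hψ₀ q)]
      exact hmem ⟨_, apply_mem_imgSub ψ₀ q hq⟩
    refine ⟨_, restrict_mem hχL hle, fun x hx => ?_⟩
    have hxm : ψ₀ (Subgroup.inclusion hPQ x) ∈ imgSub ψ₀ P :=
      apply_mem_imgSub ψ₀ (Subgroup.inclusion hPQ x) x.2
    refine Eq.trans (congrArg χ (Subtype.ext (hψx (Subgroup.inclusion hPQ x) (val_mem hψ₀ _)) :
      _ = (⟨_, hmem ⟨_, hxm⟩⟩ : imageAlong (U.subtype.comp a.toMonoidHom) (imgSub ψ₀ P)))) ?_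
    rw [hχind ⟨_, hxm⟩, hψx ⟨φ x, hφQ x⟩ (val_mem hψ₀ _)]
    exact congrArg (fun z : U => (a z : Ω)) (Subtype.ext (hχ₀x x hxm))
  have hN := isNormalIn_pPrimeResidualSystem hS hw
  have hNG := isNormalIn_pPrimeResidualSystem hUp hL.1.1
  have hle : L.IsSubsystemOf (pPrimeResidualSystem L p) := hL.2.2 _ _ hNG fun V C hC =>
    LayerExists.component_le_of_le hUp hC hNG (le_of_isSubsystemOf (hL.2.1 V C hC))
  have e : pPrimeResidualSystem L p = L := eq_of_le (fun P φ h => h.1) hle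
  rw [e] at hN
  exact hN

end Cfsg.Agent.Lib.Fusion.Component
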