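/-
The maps of the layer between subgroups of a component preserve it.
-/
import Cfsg.Agent.Lib.Fusion.Component.Dichotomy
import Cfsg.Agent.Lib.Fusion.Component.LayerNormal
import Cfsg.Agent.Lib.Fusion.CentralizerSystemNormal
import Cfsg.Agent.Lib.Fusion.Terminating
import Cfsg.Agent.Lib.Fusion.FittingProduct

set_option autoImplicit false
set_option linter.style.haveILetI false

namespace Cfsg.Agent.Lib.Fusion.Component

open Cfsg Cfsg.FusionSystem

universe u

variable {Ω : Type u} [Group Ω] {S V T : Subgroup Ω} {p : ℕ}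

/-- The maps of `E` between subgroups of `V` keep `V` and transport the maps of `C`. -/
def Stable (C : FusionSystem V) (E : FusionSystem T) : Prop :=
  (∀ Q ≤ V, ∀ φ ∈ E.Hom Q, ∀ x : Q, φ x ∈ V) ∧ StronglyInvariant C E

theorem Stable.mono {C : FusionSystem V} {T' : Subgroup Ω} {E : FusionSystem T}
    {L : FusionSystem T'} (h : Stable C L) (hle : ∀ Q ≤ V, E.Hom Q ⊆ L.Hom Q) : Stable C E :=
  ⟨fun Q hQ φ hφ => h.1 Q hQ φ (hle Q hQ hφ),
    fun P Q hPQ hQV φ hφ hφQ ψ hψ => h.2 P Q hPQ hQV φ hφ hφQ ψ (hle Q hQV hψ)⟩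

/-- A map that is a map of `E` times the identity on a central subgroup is a map of `E`. -/
theorem hom_of_decomp {E : FusionSystem T} {Z Q P₁ : Subgroup Ω} (hZ : E.IsCentral Z)
    {φ : Q →* Ω} {φ₁ : P₁ →* Ω} (hφ₁ : φ₁ ∈ E.Hom P₁)
    (h : ∀ x : Q, ∃ a : P₁, ∃ z ∈ Z, (x : Ω) = a * z ∧ φ x = φ₁ a * z) : φ ∈ E.Hom Q := by
  obtain ⟨ψ, hψ, hψP, hψZ⟩ := hZ.2 P₁ φ₁ hφ₁
  refine mem_of_restrict hψ (fun x hx => ?_) fun x => ?_
  · obtain ⟨a, z, hz, hxz, -⟩ := h ⟨x, hx⟩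
    rw [show x = (a : Ω) * z from hxz]
    exact Subgroup.mul_mem_sup a.2 hz
  · obtain ⟨a, z, hz, hxz, hφx⟩ := h x
    refine hφx.trans ?_
    refine (congrArg₂ (· * ·) (hψP a).symm (hψZ ⟨z, hz⟩).symm).trans ?_
    show ψ _ * ψ _ = ψ _
    rw [← map_mul]
    exact congrArg ψ (Subtype.ext hxz.symm)

/-- The maps of a central product with source inside the first factor lie in it. -/
theorem hom_of_product_left [Fact p.Prime] [Finite S] (hS : IsPGroup p S) {F : FusionSystem S}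
    {T₁ T₂ U : Subgroup Ω} {E₁ : FusionSystem T₁} {E₂ : FusionSystem T₂} {D : FusionSystem U}
    (h₁S : T₁ ≤ S) (hE₁ : E₁.IsSaturated p) (hc₁ : NormalProduct.Centralizes F E₁ T₂)
    (hc₂ : NormalProduct.Centralizes F E₂ T₁) (hcp : IsCentralProductOf E₁ E₂ D) {Q : Subgroup Ω}
    (hQ : Q ≤ T₁) {φ : Q →* Ω} (hφ : φ ∈ D.Hom Q) : φ ∈ E₁.Hom Q := by
  haveI : Finite T₁ := finite_of_le h₁S
  obtain ⟨P₁, P₂, φ₁, φ₂, hφ₁, hφ₂, hx⟩ := CentralProduct.exists_decomp hcp hφ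
  refine hom_of_decomp (hc₁.isCentral_inf (hS.to_le h₁S) hE₁) hφ₁ fun x => ?_
  obtain ⟨a, b, hab, hφab⟩ := hx x
  have hb : (b : Ω) ∈ T₁ := by
    rw [show (b : Ω) = (a : Ω)⁻¹ * x by rw [hab, inv_mul_cancel_left]]
    exact Subgroup.mul_mem _ (Subgroup.inv_mem _ (src_le hφ₁ a.2)) (hQ x.2)
  refine ⟨a, b, ⟨hb, src_le hφ₂ b.2⟩, hab, ?_⟩
  rw [hφab, hc₂.fixed hφ₂ b hb]

theorem stable_aux [Fact p.Prime] (n : ℕ ×ₗ ℕ) : ∀ (S : Subgroup Ω) (F : FusionSystem S),
    systemSize F = n → Finite S → IsPGroup p S → F.IsSaturated p →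
    ∀ (V : Subgroup Ω) (C : FusionSystem V), C.IsComponentIn F p →
    ∀ (T : Subgroup Ω) (E : FusionSystem T), E.IsLayerOf F p → Stable C E := by
  induction n using WellFoundedLT.induction with
  | _ n ih =>
  intro S F hn hfin hS hF V C hC T E hE
  by_cases hsame : SameSys C F
  · obtain ⟨rfl, hh⟩ := hsame
    obtain rfl : C = F := eq_of_hom hh
    refine Stable.mono (L := C) ⟨fun Q _ φ hφ x => val_mem hφ x, ?_⟩ fun Q _ => hE.1.1.2.2.1 Q
    exact stronglyInvariant_of_isWeaklyNormalIn hS (isWeaklyNormalIn_self hF)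
  obtain ⟨U, G, hG, hCG, hlt⟩ := exists_proper_normal hC.1 Fact.out hS hfin hC.2 hsame
  have hUS : U ≤ S := hG.1.2.2.2.1.1
  haveI : Finite U := finite_of_le hUS
  obtain ⟨T₁, L, hL⟩ := LayerExists.exists_layer (hS.to_le hUS) hG.1.1
  have hst := ih _ (hn ▸ hlt) U G rfl inferInstance (hS.to_le hUS) hG.1.1 V C hCG T₁ L hL
  have hLF := isNormalIn_layer hS hG hL
  obtain ⟨G', hG', hG'c⟩ := exists_centralizerSubsystem hS hG hUS
  have hYS : centFix F G p hUS ≤ S := centFix_le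
  haveI : Finite (centFix F G p hUS) := finite_of_le hYS
  obtain ⟨T₂, L₂, hL₂⟩ := LayerExists.exists_layer (hS.to_le hYS) hG'.1.1
  have hL₂F := isNormalIn_layer hS hG' hL₂
  have hc₁ : NormalProduct.Centralizes F L T₂ :=
    centralizes_anti (fun P φ hφ => hom_subset_centralizerHom_centFix hS hG P
      (hL.1.1.2.2.1 P hφ)) hL₂.1.1.2.2.2.1.1
  have hc₂ : NormalProduct.Centralizes F L₂ T₁ :=
    centralizes_anti (fun P φ hφ => hG'c P (hL₂.1.1.2.2.1 P hφ)) hL.1.1.2.2.2.1.1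
  have h₁S : T₁ ≤ S := hLF.1.2.2.2.1.1
  have h₂S : T₂ ≤ S := hL₂F.1.2.2.2.1.1
  haveI : Finite T₁ := finite_of_le h₁S
  haveI : Finite T₂ := finite_of_le h₂S
  obtain ⟨D, hcp⟩ :=
    NormalProduct.exists_centralProduct hS h₁S h₂S hLF.1.1 hL₂F.1.1 hc₁ hc₂
  have hD := NormalProduct.isNormalIn_centralProduct hS hLF hL₂F hc₁ hc₂ hcp
  have hED : E.IsSubsystemOf D := hE.2.2 _ D hD fun V' C' hC' => by
    by_cases hV' : V' ≤ U
    · exact fun P φ hφ => CentralProduct.subsystem_left hcp P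
        (hL.2.1 V' C' (isComponentIn_of_le hS hC' hG hV') P hφ)
    · exact fun P φ hφ => CentralProduct.subsystem_right hcp P
        (hL₂.2.1 V' C' (isComponentIn_of_le hS hC' hG'
          (le_centFix_of_component hS hUS hC' hG hV')) P hφ)
  have hVT : V ≤ T₁ := le_of_isSubsystemOf (hL.2.1 V C hCG)
  exact hst.mono fun Q hQ φ hφ =>
    hom_of_product_left hS h₁S hLF.1.1 hc₁ hc₂ hcp (hQ.trans hVT) (hED Q hφ)

/-- A component is stable under the layer. -/
theorem stable_layer [Fact p.Prime] [Finite S] (hS : IsPGroup p S) {F : FusionSystem S}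
    (hF : F.IsSaturated p) {C : FusionSystem V} (hC : C.IsComponentIn F p) {E : FusionSystem T}
    (hE : E.IsLayerOf F p) : Stable C E :=
  stable_aux _ S F rfl inferInstance hS hF V C hC T E hE

/-- A component is stable under the generalized Fitting subsystem. -/
theorem isNormalIn_fitting [Fact p.Prime] [Finite S] (hS : IsPGroup p S) {F : FusionSystem S}
    (hF : F.IsSaturated p) {C : FusionSystem V} (hC : C.IsComponentIn F p) {R U : Subgroup Ω}
    {E : FusionSystem T} {D : FusionSystem U} (hE : E.IsLayerOf F p) (hR : F.IsNormal R)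
    (hc : ∀ P, E.Hom P ⊆ F.centralizerHom R P)
    (hcp : IsCentralProductOf (innerFusionSystem R) E D) : C.IsNormalIn D p := by
  have hTS : T ≤ S := hE.1.1.2.2.2.1.1
  haveI : Finite T := finite_of_le hTS
  haveI : Finite R := finite_of_le hR.1
  have hDn := FittingProduct.isNormalIn_centralProduct hS hR hE.1 hc hcp
  have hUS : U ≤ S := hDn.1.2.2.2.1.1
  haveI : Finite U := finite_of_le hUS
  have hUp : IsPGroup p U := hS.to_le hUS
  have hCE := hE.2.1 V C hC
  have hVT : V ≤ T := le_of_isSubsystemOf hCE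
  have hle : ∀ Q ≤ V, D.Hom Q ⊆ E.Hom Q := by
    intro Q hQ φ hφ
    obtain ⟨P₁, P₂, φ₁, φ₂, ⟨hP₁, g, hg, hgx⟩, hφ₂, hx⟩ := CentralProduct.exists_decomp hcp hφ
    refine hom_of_decomp (FittingProduct.isCentral_inf (hS.to_le hTS) hE.1.1.1 hc) hφ₂ fun x => ?_
    obtain ⟨a, b, hab, hφab⟩ := hx x
    have haR : (a : Ω) ∈ R := hP₁ a.2
    have haT : (a : Ω) ∈ T := by
      rw [show (a : Ω) = x * (b : Ω)⁻¹ by rw [hab, mul_inv_cancel_right]]
      exact Subgroup.mul_mem _ (hVT (hQ x.2)) (Subgroup.inv_mem _ (src_le hφ₂ b.2))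
    refine ⟨b, a, ⟨haR, haT⟩, ?_, ?_⟩
    · rw [hab]
      exact FittingProduct.comm_of_centralizes hc haR (src_le hφ₂ b.2)
    · rw [hφab, hgx, FittingProduct.comm_of_centralizes hc hg haT, mul_inv_cancel_right]
      exact FittingProduct.comm_of_centralizes hc haR (val_mem hφ₂ b)
  obtain ⟨hclosed, hstr⟩ := (stable_layer hS hF hC hE).mono hle
  have hED := CentralProduct.subsystem_right hcp
  have hVU : V ≤ U := hVT.trans (le_of_isSubsystemOf hED)
  have hCD : C.IsSubsystemOf D := fun P φ hφ => hED P (hCE P hφ)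
  have hVc : D.StronglyClosed V := ⟨hVU, fun Q hQ φ hφ x => hclosed Q hQ φ hφ x⟩
  have hw : C.IsWeaklyNormalIn D p :=
    ⟨hC.2.1, hDn.1.1, (S5119.result p hUp D hDn.1.1 C hCD hVc).2 hstr⟩
  have hN := isNormalIn_pPrimeResidualSystem hUp hw
  haveI : Finite V := finite_of_le hVc.1
  have e : pPrimeResidualSystem C p = C := eq_of_le (fun P φ h => h.1)
    (LayerExists.quasisimple_le_residual (hS.to_le (hVU.trans hUS)) hC.2)
  rw [e] at hN
  exact hN

end Cfsg.Agent.Lib.Fusion.Component
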